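import Mathlib

/-!
# Arithmetic of `q² + q + 1`, `q² - q + 1`, `q = 3 ^ k` (helper203, for S3635)
-/

set_option autoImplicit false

namespace Cfsg.Agent.H203.GI

/-- prime divisors of `x² + x + 1` -/
theorem mod_three {x : ℤ} {r : ℕ} (hr : r.Prime) (h3 : r ≠ 3) (h : (r : ℤ) ∣ x ^ 2 + x + 1) : 3 ∣ r - 1 := by
  have : Fact r.Prime := ⟨hr⟩
  have h1 : ((x : ZMod r)) ^ 2 + x + 1 = 0 := by
    have := (ZMod.intCast_zmod_eq_zero_iff_dvd (x ^ 2 + x + 1) r).2 h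
    push_cast at this
    exact this
  have h2 : (x : ZMod r) ^ 3 = 1 := by
    have : (x : ZMod r) ^ 3 - 1 = (x - 1) * ((x : ZMod r) ^ 2 + x + 1) := by ring
    rw [h1, mul_zero, sub_eq_zero] at this
    exact this
  have h4 : (x : ZMod r) ≠ 1 := by
    intro h4
    rw [h4] at h1
    have h5 : ((3 : ℕ) : ZMod r) = 0 := by
      push_cast
      linear_combination h1
    rw [ZMod.natCast_eq_zero_iff] at h5
    exact h3 ((Nat.prime_dvd_prime_iff_eq hr Nat.prime_three).1 h5)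
  have h5 : orderOf (x : ZMod r) = 3 := orderOf_eq_prime h2 h4
  have h6 : (x : ZMod r) ≠ 0 := by
    intro h6
    rw [h6] at h2
    norm_num at h2
  rw [← h5]
  exact ZMod.orderOf_dvd_card_sub_one h6

/-- the two numbers -/
def n₁ (k : ℕ) : ℕ := (3 ^ k) ^ 2 + 3 ^ k + 1
def n₂ (k : ℕ) : ℕ := (3 ^ k) ^ 2 - 3 ^ k + 1

theorem cast_n₁ (k : ℕ) : (n₁ k : ℤ) = ((3 : ℤ) ^ k) ^ 2 + 3 ^ k + 1 := by
  rw [n₁]; push_cast; ring

theorem le_sq (k : ℕ) : 3 ^ k ≤ (3 ^ k) ^ 2 := Nat.le_self_pow (by norm_num) _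

theorem cast_n₂ (k : ℕ) : (n₂ k : ℤ) = ((3 : ℤ) ^ k) ^ 2 - 3 ^ k + 1 := by
  rw [n₂]; push_cast [le_sq]; ring

theorem odd_n₁ (k : ℕ) : n₁ k % 2 = 1 := by
  have h : Odd (3 ^ k) := Odd.pow (by decide)
  obtain ⟨m, hm⟩ := h
  rw [n₁, hm]
  have : (2 * m + 1) ^ 2 + (2 * m + 1) + 1 = 2 * (2 * m ^ 2 + 3 * m + 1) + 1 := by ring
  omega

theorem odd_n₂ (k : ℕ) : n₂ k % 2 = 1 := by
  have h : Odd (3 ^ k) := Odd.pow (by decide)
  obtain ⟨m, hm⟩ := h
  rw [n₂, hm]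
  have : (2 * m + 1) ^ 2 = 2 * (2 * m ^ 2 + m) + (2 * m + 1) := by ring
  omega

theorem three_n₁ {k : ℕ} (hk : 1 ≤ k) : n₁ k % 3 = 1 := by
  obtain ⟨j, rfl⟩ : ∃ j, k = j + 1 := ⟨k - 1, by omega⟩
  have h1 : ((n₁ (j + 1) : ℕ) : ℤ) = 3 * (3 * (3 ^ j) ^ 2 + 3 ^ j) + 1 := by
    rw [cast_n₁, pow_succ]; ring
  omega

theorem three_n₂ {k : ℕ} (hk : 1 ≤ k) : n₂ k % 3 = 1 := by
  obtain ⟨j, rfl⟩ : ∃ j, k = j + 1 := ⟨k - 1, by omega⟩
  have h1 : ((n₂ (j + 1) : ℕ) : ℤ) = 3 * (3 * (3 ^ j) ^ 2 - 3 ^ j) + 1 := by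
    rw [cast_n₂, pow_succ]; ring
  omega

theorem mod_six_of {r n : ℕ} (hr : r.Prime) (ho : n % 2 = 1) (h3 : n % 3 = 1) (hd : r ∣ n)
    (h : ∃ x : ℤ, (n : ℤ) = x ^ 2 + x + 1) : r % 6 = 1 := by
  have hr2 : r ≠ 2 := by rintro rfl; omega
  have hr3 : r ≠ 3 := by rintro rfl; omega
  obtain ⟨x, hx⟩ := h
  have h1 := mod_three hr hr3 (hx ▸ Int.natCast_dvd_natCast.2 hd)
  have h2 : r % 2 = 1 := hr.eq_two_or_odd.resolve_left hr2
  have := hr.two_le
  omega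

theorem mod_six₁ {k r : ℕ} (hk : 1 ≤ k) (hr : r.Prime) (hd : r ∣ n₁ k) : r % 6 = 1 :=
  mod_six_of hr (odd_n₁ k) (three_n₁ hk) hd ⟨3 ^ k, cast_n₁ k⟩

theorem mod_six₂ {k r : ℕ} (hk : 1 ≤ k) (hr : r.Prime) (hd : r ∣ n₂ k) : r % 6 = 1 :=
  mod_six_of hr (odd_n₂ k) (three_n₂ hk) hd ⟨-3 ^ k, by rw [cast_n₂]; ring⟩

theorem coprime_n {k : ℕ} (hk : 1 ≤ k) : Nat.Coprime (n₁ k) (n₂ k) := by
  rw [Nat.coprime_iff_gcd_eq_one]
  by_contra h
  obtain ⟨r, hr, hd⟩ := Nat.exists_prime_and_dvd h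
  have h1 := hd.trans (Nat.gcd_dvd_left _ _)
  have h2 := hd.trans (Nat.gcd_dvd_right _ _)
  have h3 := mod_six₁ hk hr h1
  have h4 : (r : ℤ) ∣ 2 * 3 ^ k := by
    have := dvd_sub (Int.natCast_dvd_natCast.2 h1) (Int.natCast_dvd_natCast.2 h2)
    rw [cast_n₁, cast_n₂] at this
    have e : (((3 : ℤ) ^ k) ^ 2 + 3 ^ k + 1 - ((3 ^ k) ^ 2 - 3 ^ k + 1)) = 2 * 3 ^ k := by ring
    rwa [e] at this
  have h5 : r ∣ 2 * 3 ^ k := by exact_mod_cast h4
  rcases hr.dvd_mul.1 h5 with h6 | h6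
  · have := (Nat.prime_dvd_prime_iff_eq hr Nat.prime_two).1 h6
    omega
  · have := (Nat.prime_dvd_prime_iff_eq hr Nat.prime_three).1 (hr.dvd_of_dvd_pow h6)
    omega

/-- 3-adic size: `y ^ d - 1 = 3 ^ k * c`, `y = 1 mod 3`, `y ≠ 1 mod 9` -/
theorem dvd_exp {y d k : ℕ} (h1 : 3 ∣ y - 1) (h9 : ¬ 9 ∣ y - 1) (hy : 1 < y) (hd : d ≠ 0) (hk : 1 ≤ k)
    (h : 3 ^ k ∣ y ^ d - 1) : 3 ^ (k - 1) ∣ d := by
  have : Fact (Nat.Prime 3) := ⟨Nat.prime_three⟩
  have hyk : 1 < y ^ d := Nat.one_lt_pow hd hy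
  have h3y : ¬ 3 ∣ y := by omega
  have key := padicValNat.pow_sub_pow (p := 3) (x := y) (y := 1) (by decide) hy h1 h3y hd
  rw [one_pow] at key
  have e1 : padicValNat 3 (y - 1) = 1 := by
    apply le_antisymm
    · by_contra hc
      exact h9 ((padicValNat_dvd_iff_le (p := 3) (n := 2) (by omega)).2 (by omega))
    · exact (padicValNat_dvd_iff_le (p := 3) (n := 1) (by omega)).1 (by simpa using h1)
  have h2 : k ≤ padicValNat 3 (y ^ d - 1) := (padicValNat_dvd_iff_le (by omega)).1 h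
  exact (padicValNat_dvd_iff_le hd).2 (by omega)

theorem size {x : ℕ} (hx : 3 ≤ x) : 3 * x * (3 * x + 1) < 2 * (4 ^ x - 1) := by
  have key : 3 * x * (3 * x + 1) + 2 < 2 * 4 ^ x := by
    induction x, hx using Nat.le_induction with
    | base => norm_num
    | succ n hn ih =>
      rw [pow_succ]
      nlinarith
  omega

/-- `X (X + 1) = 2 (7 ^ c - 1)`, `X = ± 3 ^ k` -/
theorem no_seven {k c : ℕ} (hk : 2 ≤ k) (h : 3 ^ k * (3 ^ k + 1) = 2 * (7 ^ c - 1) ∨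
    3 ^ k * (3 ^ k - 1) = 2 * (7 ^ c - 1)) : False := by
  have h9 : 3 ^ 2 ≤ 3 ^ k := Nat.pow_le_pow_right (by norm_num) hk
  have hc : c ≠ 0 := by
    rintro rfl
    rcases h with h | h
    · have : 0 < 3 ^ k * (3 ^ k + 1) := by positivity
      simp at h
    · have : 0 < 3 ^ k * (3 ^ k - 1) := Nat.mul_pos (by omega) (by omega)
      rw [h] at this
      simp at this
  have hd : 3 ^ k ∣ 7 ^ c - 1 := by
    have h1 : 3 ^ k ∣ 2 * (7 ^ c - 1) := by
      rcases h with h | h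
      · rw [← h]; exact dvd_mul_right _ _
      · rw [← h]; exact dvd_mul_right _ _
    exact (Nat.Coprime.pow_left k (by norm_num : Nat.Coprime 3 2)).dvd_of_dvd_mul_left h1
  have h2 := dvd_exp (by norm_num) (by norm_num) (by norm_num) hc (by omega) hd
  have h3 : 3 ^ (k - 1) ≤ c := Nat.le_of_dvd (by omega) h2
  have h4 : 3 ≤ 3 ^ (k - 1) := by
    calc 3 = 3 ^ 1 := by norm_num
      _ ≤ _ := Nat.pow_le_pow_right (by norm_num) (by omega)
  have h5 := size h4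
  have h6 : 3 * 3 ^ (k - 1) = 3 ^ k := by
    rw [← pow_succ']
    congr 1
    omega
  rw [h6] at h5
  have h7 : 4 ^ 3 ^ (k - 1) ≤ 7 ^ c :=
    (Nat.pow_le_pow_left (by norm_num) _).trans (Nat.pow_le_pow_right (by norm_num) h3)
  have h8 : 3 ^ k * (3 ^ k - 1) ≤ 3 ^ k * (3 ^ k + 1) := Nat.mul_le_mul_left _ (by omega)
  omega

/-- `X (X + 1) = 2 (2 ^ c - 1)`, `X = ± 3 ^ k` -/
theorem no_two {k c : ℕ} (hk : 2 ≤ k) (h : 3 ^ k * (3 ^ k + 1) = 2 * (2 ^ c - 1) ∨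
    3 ^ k * (3 ^ k - 1) = 2 * (2 ^ c - 1)) : False := by
  have h9 : 3 ^ 2 ≤ 3 ^ k := Nat.pow_le_pow_right (by norm_num) hk
  have hd : 3 ^ k ∣ 2 ^ c - 1 := by
    have h1 : 3 ^ k ∣ 2 * (2 ^ c - 1) := by
      rcases h with h | h
      · rw [← h]; exact dvd_mul_right _ _
      · rw [← h]; exact dvd_mul_right _ _
    exact (Nat.Coprime.pow_left k (by norm_num : Nat.Coprime 3 2)).dvd_of_dvd_mul_left h1
  have he : Even c := by
    by_contra ho
    rw [Nat.not_even_iff_odd] at ho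
    obtain ⟨m, rfl⟩ := ho
    have h3 : 3 ∣ 2 ^ (2 * m + 1) - 1 := (dvd_pow_self 3 (by omega)).trans hd
    have h4 : 2 ^ (2 * m + 1) % 3 = 2 := by
      rw [pow_succ, pow_mul, Nat.mul_mod, Nat.pow_mod]
      norm_num
    clear hd h
    generalize 2 ^ (2 * m + 1) = z at *
    omega
  obtain ⟨d, rfl⟩ := he
  have e4 : 2 ^ (d + d) = 4 ^ d := by
    rw [← two_mul, pow_mul]; norm_num
  rw [e4] at hd h
  have hd0 : d ≠ 0 := by
    rintro rfl
    rcases h with h | h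
    · have : 0 < 3 ^ k * (3 ^ k + 1) := by positivity
      simp at h
    · have : 0 < 3 ^ k * (3 ^ k - 1) := Nat.mul_pos (by omega) (by omega)
      rw [h] at this
      simp at this
  have h2 := dvd_exp (y := 4) (by norm_num) (by norm_num) (by norm_num) hd0 (by omega) hd
  have h3 : 3 ^ (k - 1) ≤ d := Nat.le_of_dvd (by omega) h2
  have h4 : 3 ≤ 3 ^ (k - 1) := by
    calc 3 = 3 ^ 1 := by norm_num
      _ ≤ _ := Nat.pow_le_pow_right (by norm_num) (by omega)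
  have h5 := size h4
  have h6 : 3 * 3 ^ (k - 1) = 3 ^ k := by
    rw [← pow_succ']
    congr 1
    omega
  rw [h6] at h5
  have h7 : 4 ^ 3 ^ (k - 1) ≤ 4 ^ d := Nat.pow_le_pow_right (by norm_num) h3
  have h8 : 3 ^ k * (3 ^ k - 1) ≤ 3 ^ k * (3 ^ k + 1) := Nat.mul_le_mul_left _ (by omega)
  omega

/-- `n₁`, `n₂` are not proper prime powers -/
theorem prime_power {k t a n : ℕ} (hk : 2 ≤ k) (ht : t.Prime) (ht6 : t % 6 = 1) (ha : a ≠ 0) (hn : n = n₁ k ∨ n = n₂ k)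
    (h : t ^ a = n) : a = 1 := by
  have : Fact (Nat.Prime 3) := ⟨Nat.prime_three⟩
  have hq9 : 3 ^ 2 ≤ 3 ^ k := Nat.pow_le_pow_right (by norm_num) hk
  have ht7 : 7 ≤ t := by
    have := ht.two_le
    omega
  -- `n - 1 = 3 ^ k * m`
  obtain ⟨m, hm, hm3, hm0⟩ : ∃ m, n - 1 = 3 ^ k * m ∧ ¬ 3 ∣ m ∧ m ≤ 3 ^ k + 1 := by
    have h3k : 3 ∣ 3 ^ k := dvd_pow_self 3 (by omega)
    rcases hn with rfl | rfl
    · refine ⟨3 ^ k + 1, ?_, by omega, le_rfl⟩
      rw [n₁]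
      have : (3 ^ k) ^ 2 + 3 ^ k = 3 ^ k * (3 ^ k + 1) := by ring
      omega
    · refine ⟨3 ^ k - 1, ?_, by omega, by omega⟩
      rw [n₂, Nat.mul_sub, mul_one, Nat.add_sub_cancel, sq]
  have hm1 : m ≠ 0 := by
    rintro rfl
    exact hm3 (dvd_zero _)
  have hval : padicValNat 3 (n - 1) = k := by
    rw [hm, padicValNat.mul (by positivity) hm1, padicValNat.prime_pow, padicValNat.eq_zero_of_not_dvd hm3, add_zero]
  have key := padicValNat.pow_sub_pow (p := 3) (x := t) (y := 1) (by decide) (by omega) (by omega) (by omega) ha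
  rw [one_pow, h, hval] at key
  -- sizes
  set b := padicValNat 3 a with hb
  set c := padicValNat 3 (t - 1) with hc
  have hc1 : 1 ≤ c := (padicValNat_dvd_iff_le (p := 3) (n := 1) (by omega)).1 (by rw [pow_one]; omega)
  have hta : 2 * 3 ^ c + 1 ≤ t := by
    have h1 : 3 ^ c ∣ t - 1 := pow_padicValNat_dvd
    have h2 : 2 ∣ t - 1 := by omega
    have h3 : 2 * 3 ^ c ∣ t - 1 := (Nat.Coprime.pow_right c (by norm_num : Nat.Coprime 2 3)).mul_dvd_of_dvd_of_dvd h2 h1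
    have := Nat.le_of_dvd (by omega) h3
    omega
  have hba : 3 ^ b ≤ a := Nat.le_of_dvd (by omega) pow_padicValNat_dvd
  have hnle : n ≤ (3 ^ k) ^ 2 + 3 ^ k + 1 := by
    rcases hn with rfl | rfl
    · exact le_rfl
    · rw [n₂]; omega
  by_contra ha1
  rcases Nat.eq_zero_or_pos b with hb0 | hb0
  · -- `b = 0`
    rw [hb0, add_zero] at key
    have h1 : (2 * 3 ^ c + 1) ^ 2 ≤ n := by
      rw [← h]
      exact (Nat.pow_le_pow_left hta 2).trans (Nat.pow_le_pow_right (by omega) (by omega))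
    rw [← key] at h1
    nlinarith
  · -- `b ≥ 1`
    have h1 : (2 * 3 ^ c + 1) ^ (3 ^ b) ≤ n := by
      rw [← h]
      exact (Nat.pow_le_pow_left hta _).trans (Nat.pow_le_pow_right (by omega) hba)
    have hn3 : n < 3 ^ (2 * k + 1) := by
      have : 3 ^ (2 * k + 1) = 3 * (3 ^ k) ^ 2 := by
        rw [pow_succ, mul_comm, ← pow_mul, mul_comm k 2]
      rw [this]
      nlinarith
    have hb3 : 3 ≤ 3 ^ b := by
      calc 3 = 3 ^ 1 := by norm_num
        _ ≤ _ := Nat.pow_le_pow_right (by norm_num) hb0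
    by_cases hs : b = 1 ∧ c = 1
    · obtain ⟨hb1, hc1⟩ := hs
      have hk2 : k = 2 := by omega
      subst hk2
      rw [hb1, hc1] at h1
      norm_num at h1 hn3
      omega
    · -- `3 ^ (c 3^b + 1) ≤ (2 * 3 ^ c) ^ (3 ^ b)`
      have h2 : 3 ^ (c * 3 ^ b + 1) ≤ (2 * 3 ^ c + 1) ^ (3 ^ b) := by
        calc 3 ^ (c * 3 ^ b + 1) = 3 * (3 ^ c) ^ (3 ^ b) := by rw [pow_succ, mul_comm, pow_mul]
          _ ≤ 2 ^ (3 ^ b) * (3 ^ c) ^ (3 ^ b) := by
            apply Nat.mul_le_mul_right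
            calc 3 ≤ 2 ^ 3 := by norm_num
              _ ≤ _ := Nat.pow_le_pow_right (by norm_num) hb3
          _ = (2 * 3 ^ c) ^ (3 ^ b) := by rw [mul_pow]
          _ ≤ _ := Nat.pow_le_pow_left (by omega) _
      have h3 : 2 * k ≤ c * 3 ^ b := by
        rw [key]
        have h4 : 2 * b + 1 ≤ 3 ^ b := by
          clear hs h2 h1 hn3 hba key hb
          have : ∀ b : ℕ, 2 * b + 1 ≤ 3 ^ b := by
            intro b
            induction b with
            | zero => norm_num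
            | succ n ih =>
              rw [pow_succ]
              omega
          exact this b
        rcases Nat.lt_or_ge b 2 with hb2 | hb2
        · have : b = 1 := by omega
          rw [this]
          norm_num
          omega
        · have h5 : 2 * b + 2 ≤ 3 ^ b := by
            have : ∀ b : ℕ, 2 ≤ b → 2 * b + 2 ≤ 3 ^ b := by
              intro b hb
              induction b, hb using Nat.le_induction with
              | base => norm_num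
              | succ n hn ih =>
                rw [pow_succ]
                omega
            exact this b hb2
          nlinarith
      have h4 : 3 ^ (2 * k + 1) ≤ 3 ^ (c * 3 ^ b + 1) := Nat.pow_le_pow_right (by norm_num) (by omega)
      omega

/-- a prime power among `n₁`, `n₂` is a prime `≥ 73` -/
theorem size_prime {k t a n : ℕ} (hk : 2 ≤ k) (ht : t.Prime) (ht6 : t % 6 = 1) (ha : a ≠ 0) (hn : n = n₁ k ∨ n = n₂ k)
    (h : t ^ a = n) : t = n ∧ 73 ≤ t := by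
  have h1 := prime_power hk ht ht6 ha hn h
  subst h1
  rw [pow_one] at h
  subst h
  refine ⟨rfl, ?_⟩
  have hq9 : 3 ^ 2 ≤ 3 ^ k := Nat.pow_le_pow_right (by norm_num) hk
  rcases hn with hn | hn
  · rw [hn, n₁]
    nlinarith
  · rw [hn, n₂]
    have : 9 * 3 ^ k ≤ (3 ^ k) ^ 2 := by
      rw [sq]
      exact Nat.mul_le_mul_right _ hq9
    omega

end Cfsg.Agent.H203.GI
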