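import Cfsg.Agent.H203.GI.Arith
import Cfsg.Agent.H415.PG.Def
import Cfsg.Agent.H200.PG.Tri

/-!
# The hypotheses on the simple group `S` (helper203, for S3635, `L = G₂(3^k)`)

* `Clq S n` : the primes of `n` are pairwise adjacent in the prime graph of `S`;
* `Hyp k S`, `Hyp.conn`, `Hyp.exists_pair`, `Hyp.no_list`.
-/

set_option autoImplicit false

namespace Cfsg.Agent.H203.GI

open Cfsg.Agent.H493.PG
open Cfsg.Agent.H415.PG3 (Ip)
open Cfsg.Agent.H200.PG (Isol Tri)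

universe u v

/-- the primes of `n` are pairwise adjacent -/
def Clq (S : Type u) [Group S] (n : ℕ) : Prop :=
  ∀ r s : ℕ, r.Prime → s.Prime → r ≠ s → r ∣ n → s ∣ n → ∃ x : S, orderOf x = r * s

theorem Clq.congr {S : Type u} {S' : Type v} [Group S] [Group S'] {n : ℕ} (h : Clq S n) (e : S ≃* S') : Clq S' n := by
  intro r s hr hs hne h1 h2
  obtain ⟨x, hx⟩ := h r s hr hs hne h1 h2
  exact ⟨e x, by rw [MulEquiv.orderOf_eq, hx]⟩

/-- the hypotheses -/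
structure Hyp (k : ℕ) (S : Type u) [Group S] : Prop where
  hk : 2 ≤ k
  h1 : Ip S (n₁ k)
  h2 : Ip S (n₂ k)
  hπ : ∀ r : ℕ, r.Prime → r ∣ Nat.card S → r = 3 ∨ r ∣ (3 ^ k) ^ 2 - 1 ∨ r ∣ n₁ k ∨ r ∣ n₂ k
  cl : Clq S (n₁ k)

namespace Hyp

variable {k : ℕ} {S : Type u} [Group S]

theorem congr (H : Hyp k S) {S' : Type v} [Group S'] (e : S ≃* S') : Hyp k S' where
  hk := H.hk
  h1 := H.h1.congr e
  h2 := H.h2.congr e
  hπ := by
    intro r hr hd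
    rw [← Nat.card_congr e.toEquiv] at hd
    exact H.hπ r hr hd
  cl := H.cl.congr e

variable (H : Hyp k S)

include H

theorem hk1 : 1 ≤ k := H.hk.trans' (by norm_num)

theorem isol₁ : Isol S (n₁ k) := ⟨Nat.odd_iff.2 (odd_n₁ k), H.h1.dvd, H.h1.iso⟩

theorem isol₂ : Isol S (n₂ k) := ⟨Nat.odd_iff.2 (odd_n₂ k), H.h2.dvd, H.h2.iso⟩

theorem not_both {r : ℕ} (hr : r.Prime) (h1 : r ∣ n₁ k) (h2 : r ∣ n₂ k) : False := by
  have := Nat.dvd_gcd h1 h2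
  rw [coprime_n H.hk1] at this
  exact hr.one_lt.ne' (Nat.dvd_one.1 this)

theorem mod_six {r : ℕ} (hr : r.Prime) (h : r ∣ n₁ k ∨ r ∣ n₂ k) : r % 6 = 1 :=
  h.elim (mod_six₁ H.hk1 hr) (mod_six₂ H.hk1 hr)

theorem dvd_card {r : ℕ} (hr : r.Prime) (h : r ∣ n₁ k ∨ r ∣ n₂ k) : r ∣ Nat.card S :=
  h.elim (H.h1.dvd r hr) (H.h2.dvd r hr)

theorem conn₁ {r s : ℕ} (h : r ∣ n₁ k) (hc : Conn S r s) : s ∣ n₁ k := H.isol₁.conn h hc

theorem conn₂ {r s : ℕ} (h : r ∣ n₂ k) (hc : Conn S r s) : s ∣ n₂ k := H.isol₂.conn h hc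

theorem conn {r s : ℕ} (h : r ∣ n₁ k ∨ r ∣ n₂ k) (hc : Conn S r s) : s ∣ n₁ k ∨ s ∣ n₂ k :=
  h.imp (fun h => H.conn₁ h hc) (fun h => H.conn₂ h hc)

theorem not_two {r : ℕ} (h : r ∣ n₁ k ∨ r ∣ n₂ k) : ¬ Conn S r 2 := by
  intro hc
  have := H.mod_six Nat.prime_two (H.conn h hc)
  omega

theorem ne_two {r : ℕ} (h : r ∣ n₁ k ∨ r ∣ n₂ k) : r ≠ 2 := by
  rintro rfl
  exact H.not_two h (Conn.refl _)

theorem ne_three {r : ℕ} (hr : r.Prime) (h : r ∣ n₁ k ∨ r ∣ n₂ k) : r ≠ 3 := by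
  rintro rfl
  have := H.mod_six hr h
  omega

theorem not_three {r : ℕ} (h : r ∣ n₁ k ∨ r ∣ n₂ k) : ¬ Conn S r 3 := by
  intro hc
  have := H.mod_six Nat.prime_three (H.conn h hc)
  omega

/-- a prime of each -/
theorem exists_pair : ∃ r s : ℕ, r.Prime ∧ s.Prime ∧ r ∣ n₁ k ∧ s ∣ n₂ k ∧ r ∣ Nat.card S ∧ s ∣ Nat.card S ∧
    ¬ Conn S r s := by
  obtain ⟨r, hr, hrn⟩ := Nat.exists_prime_and_dvd H.h1.one_lt.ne'
  obtain ⟨s, hs, hsn⟩ := Nat.exists_prime_and_dvd H.h2.one_lt.ne'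
  exact ⟨r, s, hr, hs, hrn, hsn, H.h1.dvd r hr hrn, H.h2.dvd s hs hsn, fun hc => H.not_both hs (H.conn₁ hrn hc) hsn⟩

theorem tri : Tri S := H.isol₁.tri H.isol₂ H.h1.one_lt.ne' H.h2.one_lt.ne' (coprime_n H.hk1)

/-- at least two primes, if one is small -/
theorem multi {n t : ℕ} (hn : n = n₁ k ∨ n = n₂ k) (ht : t < 73) : ∃ r : ℕ, r.Prime ∧ r ∣ n ∧ r ≠ t := by
  by_contra hc
  push Not at hc
  have hn1 : 1 < n := by
    rcases hn with rfl | rfl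
    · exact H.h1.one_lt
    · exact H.h2.one_lt
  have h1 := Nat.eq_prime_pow_of_unique_prime_dvd (n := n) (p := t) (by omega) fun {d} hd hdn => hc d hd hdn
  obtain ⟨r, hr, hrn⟩ := Nat.exists_prime_and_dvd hn1.ne'
  obtain rfl := hc r hr hrn
  have h6 : r % 6 = 1 := H.mod_six hr (by rcases hn with rfl | rfl <;> tauto)
  have h2 := size_prime H.hk hr h6 (a := n.primeFactorsList.length) (by
    intro h0
    rw [h0, pow_zero] at h1
    omega) hn h1.symm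
  omega

/-- not only three small primes -/
theorem no_list {a b c : ℕ} (ha : a < 73) (hb : b < 73) (hc : c < 73)
    (h : ∀ r : ℕ, r.Prime → r ∣ n₁ k ∨ r ∣ n₂ k → r = a ∨ r = b ∨ r = c) : False := by
  obtain ⟨r, hr, hrn⟩ := Nat.exists_prime_and_dvd H.h1.one_lt.ne'
  obtain ⟨s, hs, hsn⟩ := Nat.exists_prime_and_dvd H.h2.one_lt.ne'
  have h3 := h r hr (Or.inl hrn)
  have h4 := h s hs (Or.inr hsn)
  obtain ⟨r', hr', hrn', hne⟩ := H.multi (Or.inl rfl) (t := r) (by omega)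
  obtain ⟨s', hs', hsn', hne'⟩ := H.multi (Or.inr rfl) (t := s) (by omega)
  have h5 := h r' hr' (Or.inl hrn')
  have h6 := h s' hs' (Or.inr hsn')
  have d1 : r ≠ s := by rintro rfl; exact H.not_both hr hrn hsn
  have d2 : r ≠ s' := by rintro rfl; exact H.not_both hr hrn hsn'
  have d3 : r' ≠ s := by rintro rfl; exact H.not_both hr' hrn' hsn
  have d4 : r' ≠ s' := by rintro rfl; exact H.not_both hr' hrn' hsn'
  omega

end Hyp

/-! ### congruences of numbers from their prime divisors -/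

theorem mul_ind {P : ℕ → Prop} (h1 : P 1) (hm : ∀ a b, P a → P b → P (a * b)) {n : ℕ} (hn : n ≠ 0)
    (h : ∀ r, r.Prime → r ∣ n → P r) : P n := by
  induction n using Nat.strong_induction_on with
  | _ n ih =>
    by_cases hn1 : n = 1
    · rw [hn1]; exact h1
    · obtain ⟨r, hr, m, rfl⟩ := Nat.exists_prime_and_dvd hn1
      have hm0 : m ≠ 0 := by
        rintro rfl
        exact hn rfl
      refine hm r m (h r hr (dvd_mul_right _ _)) (ih m ?_ hm0 fun s hs hsm => h s hs (hsm.mul_left _))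
      have := hr.two_le
      nlinarith [Nat.pos_of_ne_zero hm0]

theorem mod_one {m n : ℕ} (hn : n ≠ 0) (h : ∀ r, r.Prime → r ∣ n → r % m = 1 % m) : n % m = 1 % m := by
  refine mul_ind (P := fun x => x % m = 1 % m) rfl ?_ hn h
  intro a b ha hb
  rw [Nat.mul_mod, ha, hb, ← Nat.mul_mod, mul_one]

/-- one of the two numbers is `3` modulo `4` -/
theorem mod_four {k : ℕ} (hk : 1 ≤ k) : n₁ k % 4 = 3 ∨ n₂ k % 4 = 3 := by
  have h : 3 ^ k % 4 = 1 ∨ 3 ^ k % 4 = 3 := by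
    have : Odd (3 ^ k) := Odd.pow (by decide)
    obtain ⟨m, hm⟩ := this
    omega
  rcases h with h | h
  · left
    obtain ⟨z, hz⟩ : ∃ z, 3 ^ k = 4 * z + 1 := ⟨3 ^ k / 4, by omega⟩
    rw [n₁, hz]
    have : (4 * z + 1) ^ 2 = 4 * (4 * z ^ 2 + 2 * z) + 1 := by ring
    omega
  · right
    obtain ⟨z, hz⟩ : ∃ z, 3 ^ k = 4 * z + 3 := ⟨3 ^ k / 4, by omega⟩
    rw [n₂, hz]
    have : (4 * z + 3) ^ 2 = 4 * (4 * z ^ 2 + 6 * z + 2) + 1 := by ring
    omega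

/-- not all primes are `1` modulo `4` -/
theorem Hyp.not_mod_four {k : ℕ} {S : Type u} [Group S] (H : Hyp k S)
    (h : ∀ r : ℕ, r.Prime → r ∣ n₁ k ∨ r ∣ n₂ k → r % 4 = 1) : False := by
  have a1 : n₁ k % 4 = 1 := mod_one (by have := H.h1.one_lt; omega) fun r hr hd => h r hr (Or.inl hd)
  have a2 : n₂ k % 4 = 1 := mod_one (by have := H.h2.one_lt; omega) fun r hr hd => h r hr (Or.inr hd)
  have := mod_four H.hk1
  omega

end Cfsg.Agent.H203.GI
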