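import Mathlib

/-!
# Elements of order prime to `|K|` and to the index of `S` (helper203, for S3635)
-/

set_option autoImplicit false

namespace Cfsg.Agent.H203.GI

universe u

/-- an element of `G` of order `m` prime to `|K|` and `|G/K : S|` gives an element of order `m` of `S` -/
theorem down {G : Type u} [Group G] [Finite G] (K : Subgroup G) [K.Normal] (S : Subgroup (G ⧸ K)) [S.Normal] {m : ℕ}
    (h1 : m.Coprime (Nat.card K)) (h2 : m.Coprime S.index) (hm : ∃ g : G, orderOf g = m) : ∃ y : S, orderOf y = m := by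
  obtain ⟨g, hg⟩ := hm
  have hx : orderOf (g : G ⧸ K) = m := by
    apply Nat.dvd_antisymm
    · rw [← hg]
      exact orderOf_map_dvd (QuotientGroup.mk' K) g
    · have h3 : g ^ orderOf (g : G ⧸ K) ∈ K := by
        rw [← QuotientGroup.eq_one_iff, QuotientGroup.mk_pow, pow_orderOf_eq_one]
      have h4 : orderOf (g ^ orderOf (g : G ⧸ K)) ∣ Nat.card K := by
        rw [← Subgroup.orderOf_mk _ h3]
        exact orderOf_dvd_natCard _
      have h5 : orderOf (g ^ orderOf (g : G ⧸ K)) ∣ m := by
        rw [← hg]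
        exact orderOf_pow_dvd _
      have h6 : orderOf (g ^ orderOf (g : G ⧸ K)) = 1 := by
        have := Nat.dvd_gcd h5 h4
        rw [h1] at this
        exact Nat.dvd_one.1 this
      rw [orderOf_eq_one_iff] at h6
      rw [← hg]
      exact orderOf_dvd_of_pow_eq_one h6
  refine ⟨⟨(g : G ⧸ K) ^ S.index, Subgroup.pow_index_mem S _⟩, ?_⟩
  rw [Subgroup.orderOf_mk, Nat.Coprime.orderOf_pow (by rw [hx]; exact h2), hx]

end Cfsg.Agent.H203.GI
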