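import Cfsg.Agent.H203.GI.TorG2
import Cfsg.Agent.H378.Regular
import Cfsg.Agent.H129.TorusChar
import Cfsg.Agent.S1059
import Cfsg.Agent.H426.LieFam

/-!
# `q² + q + 1`, `q² - q + 1` are isolated in `G₂(q)`, `q = 3^k` (helper203, for S3635)
-/

set_option autoImplicit false

namespace Cfsg.Agent.H203.GI

open Cfsg Cfsg.Agent
open Cfsg.Agent.H415.PG3 (Ip)

universe u v

section

variable {F : Type u} [Field F] [Finite F] {k : ℕ}

/-- centralizers of elements of prime order `ℓ` dividing `Φ_m(q)`, `m = 3, 6` -/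
theorem card_cent {m n : ℕ} (hF : Nat.card F = 3 ^ k) (hm : m = 3 ∨ m = 6) {ℓ : ℕ} (hℓ : ℓ.Prime)
    (h6 : ℓ % 6 = 1) (hn : (Polynomial.cyclotomic m ℤ).eval ((Nat.card F : ℕ) : ℤ) = (n : ℤ)) (hd : ℓ ∣ n)
    {x : ↥(Cfsg.Lie.chevG2.group F)} (hx : orderOf x = ℓ) :
    Nat.card ↥(Subgroup.centralizer {x}) = n := by
  have hp : Cfsg.Agent.Nodes.RGDChev.IsType Cfsg.Lie.chevG2 2 CoxeterMatrix.G₂ := by simp
  have hW : Nat.card CoxeterMatrix.G₂.Group = 12 :=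
    Cfsg.Agent.S1092.result (⟨2, CoxeterMatrix.G₂⟩, 12) (by simp)
  have : Finite CoxeterMatrix.G₂.Group := Nat.finite_of_card_ne_zero (by rw [hW]; norm_num)
  have hl12 : ¬ ℓ ∣ 12 := by
    intro h
    have h1 : ℓ ∣ 2 ^ 2 * 3 := h
    rcases hℓ.dvd_mul.1 h1 with h2 | h2
    · have := (Nat.prime_dvd_prime_iff_eq hℓ Nat.prime_two).1 (hℓ.dvd_of_dvd_pow h2)
      omega
    · have := (Nat.prime_dvd_prime_iff_eq hℓ Nat.prime_three).1 h2
      omega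
  have h1 := Cfsg.Agent.H378.Regular.centralizer_fin hp CoxeterMatrix.G₂.toCoxeterSystem
    Cfsg.Agent.H129.TorusChar.invC_G2 (F := F) (x := x) hℓ (by
      rw [hF]
      intro h
      have := (Nat.prime_dvd_prime_iff_eq hℓ Nat.prime_three).1 (hℓ.dvd_of_dvd_pow h)
      omega) hx
    (by rw [hW]; exact hl12) (m := m) (by omega)
    (by rcases hm with rfl | rfl <;> decide) (fun h => hl12 (h.trans (by rcases hm with rfl | rfl <;> decide)))
    (by rw [hn]; exact_mod_cast hd)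
  rw [h1.2.1, hn, Int.natAbs_natCast]

theorem isol_of_cent {G : Type u} [Group G] [Finite G] {n : ℕ}
    (h : ∀ (x : G) (ℓ : ℕ), ℓ.Prime → ℓ ∣ n → orderOf x = ℓ → Nat.card ↥(Subgroup.centralizer {x}) = n)
    {r s : ℕ} (hr : r.Prime) (hs : s.Prime) (hrn : r ∣ n) (hsn : ¬ s ∣ n) : ¬ ∃ x : G, orderOf x = r * s := by
  rintro ⟨g, hg⟩
  have hx : orderOf (g ^ s) = r := by
    rw [orderOf_pow' g hs.ne_zero, hg, Nat.gcd_eq_right (Dvd.intro_left r rfl)]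
    exact Nat.mul_div_cancel _ hs.pos
  have h1 := h (g ^ s) r hr hrn hx
  have h2 : g ∈ Subgroup.centralizer {g ^ s} := by
    rw [Subgroup.mem_centralizer_singleton_iff]
    exact (Commute.pow_self g s).eq.symm
  have h3 : orderOf (⟨g, h2⟩ : ↥(Subgroup.centralizer {g ^ s})) ∣ Nat.card ↥(Subgroup.centralizer {g ^ s}) :=
    orderOf_dvd_natCard _
  rw [← Subgroup.orderOf_coe, h1] at h3
  simp only at h3
  rw [hg] at h3
  exact hsn ((Dvd.intro_left r rfl).trans h3)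

theorem eval3 (hF : Nat.card F = 3 ^ k) :
    (Polynomial.cyclotomic 3 ℤ).eval ((Nat.card F : ℕ) : ℤ) = (n₁ k : ℤ) := by
  rw [Polynomial.cyclotomic_three, hF, cast_n₁]
  simp

theorem eval6 (hF : Nat.card F = 3 ^ k) :
    (Polynomial.cyclotomic 6 ℤ).eval ((Nat.card F : ℕ) : ℤ) = (n₂ k : ℤ) := by
  rw [Polynomial.cyclotomic_six, hF, cast_n₂]
  simp

theorem dvd_card_g2 (hF : Nat.card F = 3 ^ k) : n₁ k * n₂ k ∣ Nat.card ↥(Cfsg.Lie.chevG2.group F) := by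
  have : Fintype F := Fintype.ofFinite F
  rw [S1059.result (F := F) (q := 3 ^ k) (by rw [← hF, Nat.card_eq_fintype_card])]
  have hfac : (3 ^ k) ^ 6 - 1 = ((3 ^ k) ^ 2 - 1) * (n₁ k * n₂ k) := by
    have h1 : 1 ≤ (3 ^ k) ^ 6 := Nat.one_le_pow _ _ (by positivity)
    have h2 : 1 ≤ (3 ^ k) ^ 2 := Nat.one_le_pow _ _ (by positivity)
    have : (((3 ^ k) ^ 6 - 1 : ℕ) : ℤ) = (((3 ^ k) ^ 2 - 1) * (n₁ k * n₂ k) : ℕ) := by
      push_cast [h1, h2]
      rw [cast_n₁, cast_n₂]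
      ring
    exact_mod_cast this
  rw [hfac]
  exact (Dvd.intro_left _ rfl).mul_left _

/-- **`q² + q + 1`** -/
theorem ip₁ (hk : 1 ≤ k) (hF : Nat.card F = 3 ^ k) : Ip ↥(Cfsg.Lie.chevG2.group F) (n₁ k) where
  dvd := fun _ _ h => h.trans ((Dvd.intro _ rfl).trans (dvd_card_g2 hF))
  iso := fun r s hr hs hrn hsn => isol_of_cent (fun x ℓ hℓ hd hx =>
    card_cent hF (Or.inl rfl) hℓ (mod_six₁ hk hℓ hd) (eval3 hF) hd hx) hr hs hrn hsn
  not_two_dvd := by have := odd_n₁ k; omega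
  one_lt := by
    have : 0 < 3 ^ k := by positivity
    rw [n₁]
    omega

/-- **`q² - q + 1`** -/
theorem ip₂ (hk : 1 ≤ k) (hF : Nat.card F = 3 ^ k) : Ip ↥(Cfsg.Lie.chevG2.group F) (n₂ k) where
  dvd := fun _ _ h => h.trans ((Dvd.intro_left _ rfl).trans (dvd_card_g2 hF))
  iso := fun r s hr hs hrn hsn => isol_of_cent (fun x ℓ hℓ hd hx =>
    card_cent hF (Or.inr rfl) hℓ (mod_six₂ hk hℓ hd) (eval6 hF) hd hx) hr hs hrn hsn
  not_two_dvd := by have := odd_n₂ k; omega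
  one_lt := by
    have h3 : 3 ^ 1 ≤ 3 ^ k := Nat.pow_le_pow_right (by norm_num) hk
    have h4 : 3 * 3 ^ k ≤ (3 ^ k) ^ 2 := by
      rw [sq]
      exact Nat.mul_le_mul_right _ h3
    rw [n₂]
    omega

end

variable {k : ℕ} {L : Type v} [Group L]

theorem ip_L₁ (hk : 1 ≤ k) (hL : H426.LieFam.Fam.Is 3 k L .g2) : Ip L (n₁ k) := by
  obtain ⟨-, F, _, _, _, hF, ⟨e⟩⟩ := hL
  exact (ip₁ (F := F) hk (by rw [Nat.card_eq_fintype_card, hF])).congr e.symm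

theorem ip_L₂ (hk : 1 ≤ k) (hL : H426.LieFam.Fam.Is 3 k L .g2) : Ip L (n₂ k) := by
  obtain ⟨-, F, _, _, _, hF, ⟨e⟩⟩ := hL
  exact (ip₂ (F := F) hk (by rw [Nat.card_eq_fintype_card, hF])).congr e.symm

theorem two_dvd_L (hL : H426.LieFam.Fam.Is 3 k L .g2) : 2 ∣ Nat.card L := by
  obtain ⟨-, F, _, _, _, hF, ⟨e⟩⟩ := hL
  rw [Nat.card_congr e.toEquiv, S1059.result hF]
  refine dvd_mul_of_dvd_left (dvd_mul_of_dvd_right ?_ _) _
  have h : Odd ((3 ^ k) ^ 2) := Odd.pow (Odd.pow (by decide))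
  obtain ⟨z, hz⟩ := h
  exact ⟨z, by omega⟩

end Cfsg.Agent.H203.GI
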