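import Cfsg.Agent.H203.GI.Base
import Cfsg.Agent.H493.PGRows

/-!
# `S` alternating, sporadic, the Tits group (helper203, for S3635, `L = G₂(3^k)`)
-/

set_option autoImplicit false

namespace Cfsg.Agent.H203.GI

open Cfsg Cfsg.Agent.H493.PG Cfsg.Agent.H493.PGRows
open Cfsg.Agent

universe u

variable {k : ℕ} {S : Type u} [Group S] [Finite S]

theorem Hyp.no_nr (H : Hyp k S) {N : ℕ} (R : List ℕ) (hN : Nat.card S = N)
    (h : ∀ r, r.Prime → r ∣ N → r ∉ R → H94.PG.Sp.Nr S r) (a b c : ℕ) (habc : a < 73 ∧ b < 73 ∧ c < 73)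
    (hR : ∀ r ∈ R, r % 6 = 1 → r = a ∨ r = b ∨ r = c) : False := by
  refine H.no_list habc.1 habc.2.1 habc.2.2 fun r hr hrn => ?_
  by_cases hrR : r ∈ R
  · exact hR r hrR (H.mod_six hr hrn)
  · exact absurd (conn_of (h r hr (hN ▸ H.dvd_card hr hrn) hrR).conn) (H.not_two hrn)

/-- **alternating groups** -/
theorem no_alt (H : Hyp k S) (h : IsAlternating S) : False := by
  obtain ⟨n, hn, ⟨e⟩⟩ := h
  have H := H.congr e
  obtain ⟨r, s, hr, hs, hrn, hsn, hrd, hsd, hc⟩ := H.exists_pair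
  have key : ∀ t : ℕ, t.Prime → t ∣ n₁ k ∨ t ∣ n₂ k → t ≤ n ∧ n ≤ t + 3 := by
    intro t ht htn
    constructor
    · have h1 : t ∣ n.factorial := by
        have h2 : Nat.card (alternatingGroup (Fin n)) ∣ Nat.card (Equiv.Perm (Fin n)) :=
          Subgroup.card_subgroup_dvd_card _
        rw [Nat.card_eq_fintype_card (α := Equiv.Perm (Fin n)), Fintype.card_perm, Fintype.card_fin] at h2
        exact (H.dvd_card ht htn).trans h2
      exact (Nat.Prime.dvd_factorial ht).1 h1
    · by_contra hlt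
      exact H.not_two htn (conn_alt ht (H.ne_two htn) (by omega))
  have h1 := key r hr (Or.inl hrn)
  have h2 := key s hs (Or.inr hsn)
  have h3 := H.mod_six hr (Or.inl hrn)
  have h4 := H.mod_six hs (Or.inr hsn)
  have : r = s := by omega
  exact H.not_both hr hrn (this ▸ hsn)

open H94.PG.Sp in
/-- **the Tits group** -/
theorem no_tits (H : Hyp k S) (h : Lie.IsoTits S) : False :=
  H.no_nr [13] (NotCT.Orders.tits h) (fun _ hr hd hR => nr_tits h hr hd hR) 13 13 13 (by decide) (by decide)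

open H94.PG.Sp in
/-- **sporadic groups** -/
theorem no_spor (H : Hyp k S) (h : IsSporadicGroup S) : False := by
  rcases h with h | h | h | h | h | h | h | h | h | h | h | h | h | h | h | h | h | h | h | h | h | h | h | h | h | h
  · exact H.no_nr [5, 11] (NotCT.Orders.m11 h) (fun r hr hd hR => nr_m11' h hr hd hR) 7 7 7 (by decide) (by decide)
  · exact H.no_nr [11] (NotCT.Orders.m12 h) (fun r hr hd hR => nr_m12' h hr hd hR) 7 7 7 (by decide) (by decide)
  · exact H.no_nr [5, 7, 11] (NotCT.Orders.m22 h) (fun r hr hd hR => nr_m22' h hr hd hR) 7 7 7 (by decide) (by decide)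
  · exact H.no_nr [5, 11, 23] (NotCT.Orders.m23 h) (fun r hr hd hR => nr_m23' h hr hd hR) 7 7 7 (by decide) (by decide)
  · exact H.no_nr [11, 23] (NotCT.Orders.m24 h) (fun r hr hd hR => nr_m24' h hr hd hR) 7 7 7 (by decide) (by decide)
  · exact H.no_nr [7, 11, 19] (NotCT.Orders.j1 h) (fun r hr hd hR => nr_j1 h hr hd hR) 7 19 7 (by decide) (by decide)
  · exact H.no_nr [7] (NotCT.Orders.j2 h) (fun r hr hd hR => nr_j2 h hr hd hR) 7 7 7 (by decide) (by decide)
  · exact H.no_nr [17, 19] (NotCT.Orders.j3 h) (fun r hr hd hR => nr_j3 h hr hd hR) 19 7 7 (by decide) (by decide)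
  · exact H.no_nr [23, 29, 31, 37, 43] (NotCT.Orders.j4 h) (fun r hr hd hR => nr_j4 h hr hd hR) 31 37 43 (by decide) (by decide)
  · exact H.no_nr [23] (NotCT.Orders.co1 h) (fun r hr hd hR => nr_co1 h hr hd hR) 7 7 7 (by decide) (by decide)
  · exact H.no_nr [11, 23] (NotCT.Orders.co2 h) (fun r hr hd hR => nr_co2 h hr hd hR) 7 7 7 (by decide) (by decide)
  · exact H.no_nr [23] (NotCT.Orders.co3 h) (fun r hr hd hR => nr_co3 h hr hd hR) 7 7 7 (by decide) (by decide)
  · exact H.no_nr [11] (NotCT.Orders.mcl h) (fun r hr hd hR => nr_mcl h hr hd hR) 7 7 7 (by decide) (by decide)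
  · exact H.no_nr [7, 11] (NotCT.Orders.hs h) (fun r hr hd hR => nr_hs h hr hd hR) 7 7 7 (by decide) (by decide)
  · exact H.no_nr [11, 13] (NotCT.Orders.suz h) (fun r hr hd hR => nr_suz h hr hd hR) 13 7 7 (by decide) (by decide)
  · exact H.no_nr [17] (NotCT.Orders.he h) (fun r hr hd hR => nr_he h hr hd hR) 7 7 7 (by decide) (by decide)
  · exact H.no_nr [29] (NotCT.Orders.ru h) (fun r hr hd hR => nr_ru h hr hd hR) 7 7 7 (by decide) (by decide)
  · exact H.no_nr [11, 19, 31] (NotCT.Orders.on h) (fun r hr hd hR => nr_on h hr hd hR) 19 31 7 (by decide) (by decide)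
  · exact H.no_nr [31, 37, 67] (NotCT.Orders.ly h) (fun r hr hd hR => nr_ly h hr hd hR) 31 37 67 (by decide) (by decide)
  · exact H.no_nr [13] (NotCT.Orders.fi22 h) (fun r hr hd hR => nr_fi22 h hr hd hR) 13 7 7 (by decide) (by decide)
  · exact H.no_nr [17, 23] (NotCT.Orders.fi23 h) (fun r hr hd hR => nr_fi23 h hr hd hR) 7 7 7 (by decide) (by decide)
  · exact H.no_nr [17, 23, 29] (NotCT.Orders.fi24 h) (fun r hr hd hR => nr_fi24 h hr hd hR) 7 7 7 (by decide) (by decide)
  · exact H.no_nr [19] (NotCT.Orders.hn h) (fun r hr hd hR => nr_hn h hr hd hR) 19 7 7 (by decide) (by decide)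
  · exact H.no_nr [13, 19, 31] (NotCT.Orders.th h) (fun r hr hd hR => nr_th h hr hd hR) 13 19 31 (by decide) (by decide)
  · exact H.no_nr [31, 47] (NotCT.Orders.b h) (fun r hr hd hR => nr_b h hr hd hR) 31 7 7 (by decide) (by decide)
  · exact H.no_nr [29, 41, 59, 71] (NotCT.Orders.m h) (fun r hr hd hR => nr_m h hr hd hR) 7 7 7 (by decide) (by decide)

end Cfsg.Agent.H203.GI
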