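import Cfsg.Agent.H203.GI.Base
import Cfsg.Agent.H493.PGG2

/-!
# The primes of `q² + q + 1` (resp. `q² - q + 1`) are pairwise adjacent in `G₂(q)` (helper203, for S3635)
-/

set_option autoImplicit false

namespace Cfsg.Agent.H203.GI

open CoxeterSystem Subgroup Cfsg Cfsg.Agent Cfsg.Lie Cfsg.Lie.ChevalleyDatum
open Cfsg.Agent.ChevalleyStructure Cfsg.Agent.ChevalleyStructure.Elts Cfsg.Agent.ChevalleyStructure.CoxeterGeom
  Cfsg.Agent.ChevalleyStructure.CoxeterGeomTypes Cfsg.Agent.ChevalleyStructure.NPerm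
open Cfsg.Agent.Tits.Roots Cfsg.Agent.Tits.Core Cfsg.Agent.Nodes.Reps Cfsg.Agent.Nodes.BNOf
  Cfsg.Agent.Nodes.RGDChev Cfsg.Agent.Nodes.Bruhat
open Cfsg.Agent.KFacts.RgdField Cfsg.Agent.KFacts.RgdChevCoord Cfsg.Agent.BpExc.TorCent Cfsg.Agent.BpExc.TorChev
open Cfsg.Agent.BpExc.Tow Cfsg.Agent.BpExc.TowChev Cfsg.Agent.BpExc.FamExt Cfsg.Agent.BpExc.FamUntw
  Cfsg.Agent.BpExc.FamInst Cfsg.Agent.BpExc.LangFr Cfsg.Agent.BpExc.FamField
open Cfsg.Agent.H378.TorDual Cfsg.Agent.H378.TorChar Cfsg.Agent.H378.TorFin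
open Cfsg.Agent.H129.WData
open Cfsg.Agent.H493.PGTorus Cfsg.Agent.H493.PGCyc

universe u

section

variable {D : ChevalleyDatum} {l : ℕ} {M : CoxeterMatrix (Fin l)} (hp : IsType D l M) {W : Type*} [Group W] [Finite W]
  (cs : CoxeterSystem M W)

/-- two different primes dividing the values of two polynomials at `q` with eigenvectors of the same `w` are adjacent -/
theorem adj_of_eig {d : ℕ} {B : Fin l → Fin l → ℤ} (hB : InvC D l d B) (hd : d ≠ 0) {F : Type u} [Field F] [Finite F]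
    {w : W} {Th : Fin l → Fin l → ℤ} (hw : ∀ j, rep cs hp.isCartan w (sr j) = Th j)
    {f : ℕ} {c : Fin (f + 1) → ℤ} {V : Fin (f + 1) → Fin l → ℤ} {U : Fin l → ℤ} (h : EigOK Th c V U)
    {f' : ℕ} {c' : Fin (f' + 1) → ℤ} {V' : Fin (f' + 1) → Fin l → ℤ} {U' : Fin l → ℤ} (h' : EigOK Th c' V' U')
    {r s : ℕ} (hr : r.Prime) (hs : s.Prime) (hrs : r ≠ s) (hrd : ¬ r ∣ d) (hsd : ¬ s ∣ d)
    (h1 : (r : ℤ) ∣ pv c (Nat.card F)) (h2 : (s : ℤ) ∣ pv c' (Nat.card F)) :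
    ∃ x : ↥(D.group F), orderOf x = r * s := by
  obtain ⟨φ, hφ⟩ := exists_hom hp cs hB hd (F := F) w
  have hq : (2 : ℤ) ≤ (Nat.card F : ℤ) := by
    exact_mod_cast Finite.one_lt_card
  have hwn : (rep cs hp.isCartan w) ^ Nat.card W = 1 := by
    rw [← map_pow, pow_card_eq_one', map_one]
  obtain ⟨x, hx⟩ := exists_order (rep_apply_eq hp cs hw) Nat.card_pos hwn h hq hr h1
  obtain ⟨y, hy⟩ := exists_order (rep_apply_eq hp cs hw) Nat.card_pos hwn h' hq hs h2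
  have key : ∀ {t : ℕ} (_ : t.Prime) (_ : ¬ t ∣ d) {z : Multiplicative ((Fin l → ℤ) ⧸ LinearMap.range
      (rep cs hp.isCartan w - ((Nat.card F : ℕ) : ℤ) • (1 : Module.End ℤ (Fin l → ℤ))))} (_ : orderOf z = t),
      orderOf (φ z) = t := by
    intro t ht htd z hz
    have : Fact t.Prime := ⟨ht⟩
    refine orderOf_eq_prime ?_ ?_
    · rw [← map_pow, ← hz, pow_orderOf_eq_one, map_one]
    · intro h0
      exact htd (hz ▸ orderOf_dvd_of_pow_eq_one (hφ z h0))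
  have e1 := key hr hrd hx
  have e2 := key hs hsd hy
  refine ⟨φ x * φ y, ?_⟩
  have hc : Commute (φ x) (φ y) := by
    show φ x * φ y = φ y * φ x
    rw [← map_mul, ← map_mul, mul_comm]
  rw [hc.orderOf_mul_eq_mul_orderOf_of_coprime (by rw [e1, e2]; exact (Nat.coprime_primes hr hs).2 hrs), e1, e2]

end

variable {F : Type u} [Field F] [Finite F]

theorem adj3 {r s : ℕ} (hr : r.Prime) (hs : s.Prime) (hrs : r ≠ s)
    (h1 : (r : ℤ) ∣ pv c3 (Nat.card F)) (h2 : (s : ℤ) ∣ pv c3 (Nat.card F)) :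
    ∃ x : ↥(chevG2.group F), orderOf x = r * s := by
  have := H493.PGG2.finW
  exact adj_of_eig H493.PGG2.hp CoxeterMatrix.G₂.toCoxeterSystem H129.TorusChar.invC_G2 one_ne_zero
    (chain_rep H493.PGG2.hp CoxeterMatrix.G₂.toCoxeterSystem H493.PGG2.hA H493.PGG2.chain3_ok) H493.PGG2.eig3
    H493.PGG2.eig3 hr hs hrs (fun h => hr.one_lt.ne' (Nat.dvd_one.1 h)) (fun h => hs.one_lt.ne' (Nat.dvd_one.1 h)) h1 h2

theorem adj6 {r s : ℕ} (hr : r.Prime) (hs : s.Prime) (hrs : r ≠ s)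
    (h1 : (r : ℤ) ∣ pv c6 (Nat.card F)) (h2 : (s : ℤ) ∣ pv c6 (Nat.card F)) :
    ∃ x : ↥(chevG2.group F), orderOf x = r * s := by
  have := H493.PGG2.finW
  exact adj_of_eig H493.PGG2.hp CoxeterMatrix.G₂.toCoxeterSystem H129.TorusChar.invC_G2 one_ne_zero
    (chain_rep H493.PGG2.hp CoxeterMatrix.G₂.toCoxeterSystem H493.PGG2.hA H493.PGG2.chain6_ok) H493.PGG2.eig6
    H493.PGG2.eig6 hr hs hrs (fun h => hr.one_lt.ne' (Nat.dvd_one.1 h)) (fun h => hs.one_lt.ne' (Nat.dvd_one.1 h)) h1 h2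

/-- **the primes of `q² + q + 1`** -/
theorem clq₁ {k : ℕ} (hF : Nat.card F = 3 ^ k) : Clq ↥(chevG2.group F) (n₁ k) := by
  intro r s hr hs hrs h1 h2
  have e : pv c3 (Nat.card F : ℕ) = (n₁ k : ℤ) := by rw [pv_c3, hF, cast_n₁]; push_cast; rfl
  exact adj3 hr hs hrs (e ▸ Int.natCast_dvd_natCast.2 h1) (e ▸ Int.natCast_dvd_natCast.2 h2)

/-- **the primes of `q² - q + 1`** -/
theorem clq₂ {k : ℕ} (hF : Nat.card F = 3 ^ k) : Clq ↥(chevG2.group F) (n₂ k) := by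
  intro r s hr hs hrs h1 h2
  have e : pv c6 (Nat.card F : ℕ) = (n₂ k : ℤ) := by rw [pv_c6, hF, cast_n₂]; push_cast; rfl
  exact adj6 hr hs hrs (e ▸ Int.natCast_dvd_natCast.2 h1) (e ▸ Int.natCast_dvd_natCast.2 h2)

end Cfsg.Agent.H203.GI
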