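import Cfsg.Agent.H203.GI.RowLie
import Cfsg.Agent.H203.GI.RowSpor
import Cfsg.Agent.H203.GI.TorG2
import Cfsg.Agent.H200.PG.Ident
import Cfsg.Agent.PreUniq.Cases
import Cfsg.Agent.S0205

/-!
# The identification for S3635, `L = G₂(3^k)`, `k ≥ 2` (helper203)

* `IdentC` : `Ident` with the extra hypothesis that the primes of `n₁` are pairwise adjacent in `S`;
* `ident_g2` : `IdentC L (n₁ k) (n₂ k)` for `L` of the family `.g2` over the field with `3 ^ k` elements.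
-/

set_option autoImplicit false

namespace Cfsg.Agent.H203.GI

open Cfsg Cfsg.Agent
open Cfsg.Agent.H415.PG3 (Ip Cl)

universe u v

/-- the identification; the primes of `n₁` are pairwise adjacent in `S` -/
def IdentC (L : Type v) [Group L] (n₁ n₂ : ℕ) : Prop :=
  ∀ (S : Type u) [Group S] [Finite S], IsSimpleGroup S → ¬ IsMulCommutative S → H415.PG3.Hyp L S n₁ n₂ → Clq S n₁ →
    Nonempty (S ≃* L)

variable {k : ℕ} {L : Type v} [Group L]

/-- primes of `|G₂(3^k)|` -/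
theorem prime_g2 (hL : H426.LieFam.Fam.Is 3 k L .g2) {r : ℕ} (hr : r.Prime) (h : r ∣ Nat.card L) :
    r = 3 ∨ r ∣ (3 ^ k) ^ 2 - 1 ∨ r ∣ n₁ k ∨ r ∣ n₂ k := by
  obtain ⟨-, F, _, _, _, hF, ⟨e⟩⟩ := hL
  rw [Nat.card_congr e.toEquiv, S1059.result hF] at h
  have hfac : (3 ^ k) ^ 6 - 1 = ((3 ^ k) ^ 2 - 1) * (n₁ k * n₂ k) := by
    have h1 : 1 ≤ (3 ^ k) ^ 6 := Nat.one_le_pow _ _ (by positivity)
    have h2 : 1 ≤ (3 ^ k) ^ 2 := Nat.one_le_pow _ _ (by positivity)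
    have : (((3 ^ k) ^ 6 - 1 : ℕ) : ℤ) = (((3 ^ k) ^ 2 - 1) * (n₁ k * n₂ k) : ℕ) := by
      push_cast [h1, h2]
      rw [cast_n₁, cast_n₂]
      ring
    exact_mod_cast this
  rcases hr.dvd_mul.1 h with h | h
  · rcases hr.dvd_mul.1 h with h | h
    · exact Or.inl ((Nat.prime_dvd_prime_iff_eq hr Nat.prime_three).1 (hr.dvd_of_dvd_pow (hr.dvd_of_dvd_pow h)))
    · exact Or.inr (Or.inl h)
  · rw [hfac] at h
    rcases hr.dvd_mul.1 h with h | h
    · exact Or.inr (Or.inl h)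
    · exact Or.inr (Or.inr (hr.dvd_mul.1 h))

theorem two_dvd {S : Type u} [Group S] [Finite S] (hs : IsSimpleGroup S) (hna : ¬ IsMulCommutative S) :
    2 ∣ Nat.card S := by
  by_contra h
  have hodd : Odd (Nat.card S) := by rw [← Nat.not_even_iff_odd, even_iff_two_dvd]; exact h
  have hsol := Cfsg.Agent.S0205.result hodd
  exact hna ⟨⟨IsSimpleGroup.comm_iff_isSolvable.2 hsol⟩⟩

/-- **Identification of `G₂(3^k)`, `k ≥ 2`.** -/
theorem ident_g2 [Finite L] (hcl : Cl.{u}) (hk : 2 ≤ k) (hL : H426.LieFam.Fam.Is 3 k L .g2) :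
    IdentC.{u, v} L (n₁ k) (n₂ k) := by
  intro S _ _ hs hna hS hcq
  have hk1 : 1 ≤ k := by omega
  have h2 := two_dvd hs hna
  have H : Hyp k S := ⟨hk, hS.i₁, hS.i₂, fun r hr hd => prime_g2 hL hr (hS.pi r hr hd), hcq⟩
  rcases PreUniq.known_cases (hcl S) with h | h | ⟨p, hp, h⟩ | h | h
  · exfalso
    have h1 : Fact (Nat.card S).Prime := ⟨h⟩
    have h3 : IsCyclic S := isCyclic_of_prime_card (p := Nat.card S) rfl
    exact hna IsCyclic.isMulCommutative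
  · exact (no_alt H h).elim
  · by_cases hp3 : p = 3
    · subst hp3
      exact H200.PG.iso_g2 hk hL h h2 hS.pi hS.i₁ hS.i₂ (coprime_n hk1)
    · exact (no_lie hp hp3 h h2 H).elim
  · exact (no_tits H h).elim
  · exact (no_spor H h).elim

/-- the primes of `n₁` are pairwise adjacent in `L` -/
theorem clq_L₁ (hL : H426.LieFam.Fam.Is 3 k L .g2) : Clq L (n₁ k) := by
  obtain ⟨-, F, _, _, _, hF, ⟨e⟩⟩ := hL
  exact (clq₁ (F := F) (by rw [Nat.card_eq_fintype_card, hF])).congr e.symm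

/-- the primes of `n₂` are pairwise adjacent in `L` -/
theorem clq_L₂ (hL : H426.LieFam.Fam.Is 3 k L .g2) : Clq L (n₂ k) := by
  obtain ⟨-, F, _, _, _, hF, ⟨e⟩⟩ := hL
  exact (clq₂ (F := F) (by rw [Nat.card_eq_fintype_card, hF])).congr e.symm

end Cfsg.Agent.H203.GI
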