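import Cfsg.Agent.H203.GI.Base
import Cfsg.Agent.H416.E8Iso

/-!
# `S = G₂(u)`, `F₄(u)`, `E₇(u)`, `E₈(u)` (helper203, for S3635, `L = G₂(3^k)`)
-/

set_option autoImplicit false

namespace Cfsg.Agent.H203.GI

open Cfsg.Agent.H493.PG Cfsg.Agent.H493.PGRows
open Cfsg.Agent.H378.ExcAdj (od)
open Cfsg.Agent
open Cfsg.Agent.H378.CycTab
open Cfsg.Agent.H493.PGTorus (pv)

universe u

variable {k : ℕ} {F : Type u} [Field F] [Finite F]

/-- **`G₂(u)`**, `u` prime to 3 -/
theorem no_g2 (h3 : ¬ 3 ∣ Nat.card F) (H : Hyp k ↥(Cfsg.Lie.chevG2.group F)) : False := by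
  obtain ⟨r, s, hr, hs, hrn, hsn, hrd, hsd, hc⟩ := H.exists_pair
  have key : ((3 : ℕ) : ℤ) ∣ pv c3 (Nat.card F : ℕ) ∨ ((3 : ℕ) : ℤ) ∣ pv c6 (Nat.card F : ℕ) := by
    rw [pv3, pv6]
    have h1 : (Nat.card F : ℤ) % 3 = 1 ∨ (Nat.card F : ℤ) % 3 = 2 := by omega
    rcases h1 with h1 | h1
    · left
      obtain ⟨z, hz⟩ : ∃ z, (Nat.card F : ℤ) = 3 * z + 1 := ⟨(Nat.card F : ℤ) / 3, by omega⟩
      rw [hz]
      exact ⟨3 * z ^ 2 + 3 * z + 1, by push_cast; ring⟩
    · right
      obtain ⟨z, hz⟩ : ∃ z, (Nat.card F : ℤ) = 3 * z + 2 := ⟨(Nat.card F : ℤ) / 3, by omega⟩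
      rw [hz]
      exact ⟨3 * z ^ 2 + 3 * z + 1, by push_cast; ring⟩
  have hcase : ∀ t : ℕ, t.Prime → t ∣ n₁ k ∨ t ∣ n₂ k → od (Nat.card F) t = 3 ∨ od (Nat.card F) t = 6 := by
    intro t ht htn
    rcases H378.ExcAdj.adj_G2 F ht (H.dvd_card ht htn) with h | h | h
    · exact absurd h (H.ne_two htn)
    · exact absurd (conn_of_adj h) (H.not_two htn)
    · exact h
  rcases hcase r hr (Or.inl hrn) with h | h <;> rcases hcase s hs (Or.inr hsn) with h' | h'
  · exact hc (H493.PGG2.conn3 hr hs (dvd3 hr h) (dvd3 hs h'))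
  · rcases key with k3 | k3
    · exact H.not_three (Or.inl hrn) (H493.PGG2.conn3 hr Nat.prime_three (dvd3 hr h) k3)
    · exact H.not_three (Or.inr hsn) (H493.PGG2.conn6 hs Nat.prime_three (dvd6 hs h') k3)
  · rcases key with k3 | k3
    · exact H.not_three (Or.inr hsn) (H493.PGG2.conn3 hs Nat.prime_three (dvd3 hs h') k3)
    · exact H.not_three (Or.inl hrn) (H493.PGG2.conn6 hr Nat.prime_three (dvd6 hr h) k3)
  · exact hc (H493.PGG2.conn6 hr hs (dvd6 hr h) (dvd6 hs h'))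

/-- **`F₄(u)`** -/
theorem no_f4 (H : Hyp k ↥(Cfsg.Lie.chevF4.group F)) : False := H.not_mod_four fun r hr h => by
  have h2 := hr.two_le
  rcases H378.ExcAdj.adj_F4 F hr (H.dvd_card hr h) with h1 | h1 | h1 | h1
  · exact absurd h1 (H.ne_two h)
  · exact absurd (conn_of_adj h1) (H.not_two h)
  · have := H378.ExcNear.mod_of_od hr h1 (by norm_num)
    omega
  · have := H378.ExcNear.mod_of_od hr h1 (by norm_num)
    omega

/-- **`E₇(u)`**, `u` prime to 3 -/
theorem no_e7 (h3 : ¬ 3 ∣ Nat.card F) (H : Hyp k ↥(Cfsg.Lie.chevE7.group F)) : False := by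
  have hq1 : 1 < Nat.card F := Finite.one_lt_card
  have hcase : ∀ t : ℕ, t.Prime → t ∣ n₁ k ∨ t ∣ n₂ k → t = 73 ∨ t = 127 := by
    intro t ht htn
    rcases H378.ExcNear.near_E7 (F := F) ht (H.dvd_card ht htn) with h | ⟨hq, h⟩
    · exact absurd (conn_of h.conn) (H.not_two htn)
    · have hq2 : Nat.card F = 2 := by
        by_contra hne
        have : Nat.card F = 3 := by omega
        exact h3 (by rw [this])
      rw [hq2] at h
      rcases h with h | h
      · right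
        have h1 : t ∣ 2 ^ 7 - 1 := H378.ExcAdj.dvd_of_od_dvd (by norm_num) (by rw [h])
        have h2 : (127 : ℕ).Prime := by norm_num
        exact (Nat.prime_dvd_prime_iff_eq ht h2).1 h1
      · left
        have h1 : t ∣ 2 ^ 9 - 1 := H378.ExcAdj.dvd_of_od_dvd (by norm_num) (by rw [h])
        rw [show 2 ^ 9 - 1 = 7 * 73 by norm_num] at h1
        rcases ht.dvd_mul.1 h1 with h2 | h2
        · exfalso
          have h7 : t = 7 := (Nat.prime_dvd_prime_iff_eq ht (by norm_num)).1 h2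
          have h9 := H378.ExcNear.mod_of_od ht h (by norm_num)
          rw [h7] at h9
          omega
        · exact (Nat.prime_dvd_prime_iff_eq ht (by norm_num)).1 h2
  obtain ⟨r, s, hr, hs, hrn, hsn, hrd, hsd, hc⟩ := H.exists_pair
  have hrs : r ≠ s := by
    rintro rfl
    exact H.not_both hr hrn hsn
  have h1 := Nat.eq_prime_pow_of_unique_prime_dvd (n := n₁ k) (p := r) (by have := H.h1.one_lt; omega)
    fun {d} hd hdn => by
      have hds : d ≠ s := by
        rintro rfl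
        exact H.not_both hd hdn hsn
      have a1 := hcase d hd (Or.inl hdn)
      have a2 := hcase r hr (Or.inl hrn)
      have a3 := hcase s hs (Or.inr hsn)
      omega
  have h2 := prime_power H.hk hr (mod_six₁ H.hk1 hr hrn) (a := (n₁ k).primeFactorsList.length) (by
    intro h0
    rw [h0, pow_zero] at h1
    have := H.h1.one_lt
    omega) (Or.inl rfl) h1.symm
  rw [h2, pow_one] at h1
  have a2 := hcase r hr (Or.inl hrn)
  rw [← h1] at a2
  rw [n₁] at a2
  have hk := H.hk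
  rcases Nat.lt_or_ge k 3 with hk3 | hk3
  · obtain rfl : k = 2 := by omega
    norm_num at a2
  · have h27 : 3 ^ 3 ≤ 3 ^ k := Nat.pow_le_pow_right (by norm_num) hk3
    have h28 : 27 * 3 ^ k ≤ (3 ^ k) ^ 2 := by
      rw [sq]
      exact Nat.mul_le_mul_right _ h27
    omega

end Cfsg.Agent.H203.GI
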