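import Cfsg.Agent.H203.GI.Base
import Cfsg.Agent.H416.E8Iso

/-!
# `S = E₈(u)` (helper203, for S3635, `L = G₂(3^k)`)
-/

set_option autoImplicit false

namespace Cfsg.Agent.H203.GI

open Cfsg.Agent.H493.PG Cfsg.Agent.H493.PGRows
open Cfsg.Agent.H378.ExcAdj (od)
open Cfsg.Agent
open Cfsg.Agent.H378.CycTab
open Cfsg.Agent.H493.PGTorus (pv)

universe u

/-- `5` divides `|S|` : `k` is even -/
theorem even_of_five {k : ℕ} (hk : 1 ≤ k) (h : 5 = 3 ∨ 5 ∣ (3 ^ k) ^ 2 - 1 ∨ 5 ∣ n₁ k ∨ 5 ∣ n₂ k) : Even k := by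
  have h5 : Nat.Prime 5 := by norm_num
  rcases h with h | h | h | h
  · omega
  · by_contra ho
    rw [Nat.not_even_iff_odd] at ho
    obtain ⟨m, rfl⟩ := ho
    have e : (3 ^ (2 * m + 1)) ^ 2 = 81 ^ m * 9 := by
      rw [← pow_mul, show (81 : ℕ) = 3 ^ 4 by norm_num, ← pow_mul, show (9 : ℕ) = 3 ^ 2 by norm_num, ← pow_add]
      congr 1
      ring
    rw [e] at h
    have h1 : 81 ^ m % 5 = 1 := by rw [Nat.pow_mod]; norm_num
    have h2 : 0 < 81 ^ m := by positivity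
    omega
  · have := mod_six₁ hk h5 h
    omega
  · have := mod_six₂ hk h5 h
    omega

/-- not all primes of `n₁` are `1` modulo 5 (`k` even) -/
theorem not_mod_five {k : ℕ} (hk : 1 ≤ k) (he : Even k) (h : ∀ r : ℕ, r.Prime → r ∣ n₁ k → r % 5 = 1) : False := by
  obtain ⟨j, rfl⟩ := he
  have hp := fun (n : ℕ) (hn : n ≠ 0) (hd : n ∣ n₁ (j + j)) =>
    mod_one (m := 5) (n := n) hn fun r hr hrn => h r hr (hrn.trans hd)
  have e1 : n₁ (j + j) = ((3 ^ j) ^ 2 + 3 ^ j + 1) * ((3 ^ j) ^ 2 - 3 ^ j + 1) := by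
    have hle := le_sq j
    have : ((n₁ (j + j) : ℕ) : ℤ) = (((3 ^ j) ^ 2 + 3 ^ j + 1) * ((3 ^ j) ^ 2 - 3 ^ j + 1) : ℕ) := by
      rw [cast_n₁, pow_add]
      push_cast [hle]
      ring
    exact_mod_cast this
  have h1 : n₁ (j + j) % 5 = 1 % 5 := hp _ (by rw [n₁]; exact Nat.succ_ne_zero _) dvd_rfl
  have h2 : ((3 ^ j) ^ 2 + 3 ^ j + 1) % 5 = 1 % 5 := hp _ (Nat.succ_ne_zero _) (e1 ▸ dvd_mul_right _ _)
  have e2 : n₁ (j + j) = ((3 ^ j) ^ 2) ^ 2 + (3 ^ j) ^ 2 + 1 := by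
    rw [n₁, pow_add]
    ring
  rw [e2] at h1
  have h0 : 3 ^ j % 5 ≠ 0 := by
    intro h0
    have := (Nat.Prime.dvd_of_dvd_pow (by norm_num : Nat.Prime 5) (Nat.dvd_of_mod_eq_zero h0))
    norm_num at this
  have h3 : ∀ x : ZMod 5, x ≠ 0 → x ^ 2 + x + 1 = 1 → (x ^ 2) ^ 2 + x ^ 2 + 1 = 1 → False := by decide
  refine h3 ((3 ^ j : ℕ) : ZMod 5) ?_ ?_ ?_
  · intro h4
    rw [ZMod.natCast_eq_zero_iff] at h4
    exact h0 (Nat.mod_eq_zero_of_dvd h4)
  · have := (ZMod.natCast_eq_natCast_iff' _ _ _).2 h2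
    push_cast at this ⊢
    exact this
  · have := (ZMod.natCast_eq_natCast_iff' _ _ _).2 h1
    push_cast at this ⊢
    exact this

/-- `n₁ = 3` modulo 8 for `k` even -/
theorem mod_eight {k : ℕ} (he : Even k) : n₁ k % 8 = 3 := by
  obtain ⟨j, rfl⟩ := he
  have h1 : 3 ^ (j + j) % 8 = 1 := by
    rw [← two_mul, pow_mul, Nat.pow_mod]
    norm_num
  obtain ⟨z, hz⟩ : ∃ z, 3 ^ (j + j) = 8 * z + 1 := ⟨3 ^ (j + j) / 8, by omega⟩
  rw [n₁, hz]
  have : (8 * z + 1) ^ 2 = 8 * (8 * z ^ 2 + 2 * z) + 1 := by ring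
  omega

variable {k : ℕ} {F : Type u} [Field F] [Fintype F]

theorem five_dvd_E8 : 5 ∣ Nat.card ↥(Cfsg.Lie.chevE8.group F) := by
  rw [S1065.result (F := F) rfl]
  generalize Fintype.card F = q
  by_cases h : 5 ∣ q
  · refine dvd_mul_of_dvd_left (dvd_mul_of_dvd_left (dvd_mul_of_dvd_left (dvd_mul_of_dvd_left (dvd_mul_of_dvd_left
      (dvd_mul_of_dvd_left (dvd_mul_of_dvd_left (dvd_mul_of_dvd_left ?_ _) _) _) _) _) _) _) _
    exact dvd_pow h (by norm_num)
  · refine dvd_mul_of_dvd_left (dvd_mul_of_dvd_left (dvd_mul_of_dvd_left (dvd_mul_of_dvd_left (dvd_mul_of_dvd_left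
      (dvd_mul_of_dvd_left (dvd_mul_of_dvd_right ?_ _) _) _) _) _) _) _
    have h1 : q ^ 8 % 5 = 1 := by
      have h2 : q % 5 = 1 ∨ q % 5 = 2 ∨ q % 5 = 3 ∨ q % 5 = 4 := by omega
      rcases h2 with h2 | h2 | h2 | h2 <;> (rw [Nat.pow_mod, h2])
    omega

/-- **`E₈(u)`** -/
theorem no_e8 (H : Hyp k ↥(Cfsg.Lie.chevE8.group F)) : False := by
  have hq : Nat.card F = Fintype.card F := Nat.card_eq_fintype_card
  have hq2 : 2 ≤ Fintype.card F := Fintype.one_lt_card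
  have he := even_of_five H.hk1 (H.hπ 5 (by norm_num) five_dvd_E8)
  have h8 := mod_eight he
  have hcase : ∀ t : ℕ, t.Prime → t ∣ n₁ k → (t ∣ H416.Arith.mm (Fintype.card F) 0) ∨ t % 4 = 1 ∨
      (t ∣ H416.Arith.mm (Fintype.card F) 2) := by
    intro t ht htn
    have h2 := ht.two_le
    rcases H378.ExcAdj.adj_E8 F ht (H.dvd_card ht (Or.inl htn)) with h | h | h | h | h | h
    · exact absurd h (H.ne_two (Or.inl htn))
    · exact absurd (conn_of_adj h) (H.not_two (Or.inl htn))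
    · left
      have h1 := dvd15 ht h
      rw [pv15, hq, ← H416.Arith.mm0 hq2] at h1
      exact_mod_cast h1
    · right; left
      have := H378.ExcNear.mod_of_od ht h (by norm_num)
      omega
    · right; left
      have := H378.ExcNear.mod_of_od ht h (by norm_num)
      omega
    · right; right
      have h1 := dvd30 ht h
      rw [pv30, hq, ← H416.Arith.mm2 hq2] at h1
      exact_mod_cast h1
  -- a prime which is not 1 modulo 4
  obtain ⟨r, hr, hrn, hr4⟩ : ∃ r : ℕ, r.Prime ∧ r ∣ n₁ k ∧ r % 4 ≠ 1 := by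
    by_contra hc
    push Not at hc
    have := mod_one (m := 4) (n := n₁ k) (by omega) fun r hr hrn => hc r hr hrn
    omega
  have main : ∀ i : Fin 3, (i = 0 ∨ i = 2) → r ∣ H416.Arith.mm (Fintype.card F) i → False := by
    intro i hi hri
    have h15 : 15 ∣ H416.Arith.ix i := by
      rcases hi with rfl | rfl <;> decide
    have hall : ∀ s : ℕ, s.Prime → s ∣ n₁ k → s ∣ H416.Arith.mm (Fintype.card F) i := by
      intro s hs hsn
      by_cases hrs : r = s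
      · rwa [← hrs]
      · by_contra hns
        obtain ⟨x, hx⟩ := H.cl r s hr hs hrs hrn hsn
        exact H416.E8Iso.isol_E8 (F := F) rfl i r s hr hs hri hns x hx
    refine not_mod_five H.hk1 he fun s hs hsn => ?_
    have h1 := hall s hs hsn
    have h2 : od (Nat.card F) s = H416.Arith.ix i := by
      apply Nat.dvd_antisymm
      · exact H378.ExcAdj.od_dvd Nat.card_pos (by rw [hq]; exact (H416.Arith.order_mm hq2 hs h1 _).2 dvd_rfl)
      · exact (H416.Arith.order_mm hq2 hs h1 _).1 (by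
          rw [← hq]
          exact H378.ExcAdj.dvd_of_od_dvd Nat.card_pos dvd_rfl)
    have h3 := H378.ExcNear.mod_of_od hs h2 (H416.Arith.ix_pos i)
    have h4 := h15.trans h3
    have := hs.two_le
    omega
  rcases hcase r hr hrn with h | h | h
  · exact main 0 (Or.inl rfl) h
  · exact hr4 h
  · exact main 2 (Or.inr rfl) h

end Cfsg.Agent.H203.GI
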