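import Cfsg.Agent.H203.GI.Base

/-!
# `S = PSL₂(u)`, `u` prime to 3 (helper203, for S3635, `L = G₂(3^k)`)
-/

set_option autoImplicit false

namespace Cfsg.Agent.H203.GI

open Cfsg.Agent.H493.PG Cfsg.Agent.H493.PGRows
open Cfsg.Agent

section arith

variable {k n n' t : ℕ}

theorem exists_X (hn : (n = n₁ k ∧ n' = n₂ k) ∨ (n = n₂ k ∧ n' = n₁ k)) :
    ∃ X : ℤ, X ^ 2 = (3 ^ k) ^ 2 ∧ (n : ℤ) = X ^ 2 + X + 1 ∧ (n' : ℤ) = X ^ 2 - X + 1 := by
  rcases hn with ⟨h1, h2⟩ | ⟨h1, h2⟩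
  · exact ⟨3 ^ k, rfl, by rw [h1, cast_n₁], by rw [h2, cast_n₂]⟩
  · exact ⟨-3 ^ k, by ring, by rw [h1, cast_n₂]; ring, by rw [h2, cast_n₁]; ring⟩

theorem arith_seven (hn : (n = n₁ k ∧ n' = n₂ k) ∨ (n = n₂ k ∧ n' = n₁ k)) (ht : t.Prime) (h1 : t ∣ n + 1)
    (h2 : t ∣ n') : t = 7 := by
  obtain ⟨X, -, e1, e2⟩ := exists_X hn
  have h1 := Int.natCast_dvd_natCast.2 h1
  have h2 := Int.natCast_dvd_natCast.2 h2
  push_cast at h1
  rw [e1] at h1
  rw [e2] at h2
  have h3 : (t : ℤ) ∣ 2 * X + 1 := by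
    have := dvd_sub h1 h2
    rwa [show X ^ 2 + X + 1 + 1 - (X ^ 2 - X + 1) = 2 * X + 1 by ring] at this
  have h4 : (t : ℤ) ∣ 7 := by
    have := dvd_sub (h2.mul_left 4) (h3.mul_left (2 * X - 3))
    rwa [show 4 * (X ^ 2 - X + 1) - (2 * X - 3) * (2 * X + 1) = 7 by ring] at this
  exact (Nat.prime_dvd_prime_iff_eq ht (by norm_num)).1 (by exact_mod_cast h4)

theorem arith_two (hn : (n = n₁ k ∧ n' = n₂ k) ∨ (n = n₂ k ∧ n' = n₁ k)) (ht : t.Prime) (h1 : t ∣ n + 1)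
    (h2 : t ∣ (3 ^ k) ^ 2 - 1) : t = 2 := by
  obtain ⟨X, e0, e1, -⟩ := exists_X hn
  have h1 := Int.natCast_dvd_natCast.2 h1
  have h2 := Int.natCast_dvd_natCast.2 h2
  rw [Nat.cast_sub (Nat.one_le_pow _ _ (by positivity))] at h2
  push_cast at h1 h2
  rw [e1] at h1
  rw [← e0] at h2
  have h3 : (t : ℤ) ∣ X + 3 := by
    have := dvd_sub h1 h2
    rwa [show X ^ 2 + X + 1 + 1 - (X ^ 2 - 1) = X + 3 by ring] at this
  have h4 : (t : ℤ) ∣ 8 := by
    have := dvd_sub h2 (h3.mul_left (X - 3))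
    rwa [show X ^ 2 - 1 - (X - 3) * (X + 3) = 8 by ring] at this
  have h5 : t ∣ 2 ^ 3 := by exact_mod_cast h4
  exact (Nat.prime_dvd_prime_iff_eq ht Nat.prime_two).1 (ht.dvd_of_dvd_pow h5)

theorem eq_of (hn : n = n₁ k ∨ n = n₂ k) {z : ℕ} (h : n + 1 = 2 * z) :
    3 ^ k * (3 ^ k + 1) = 2 * (z - 1) ∨ 3 ^ k * (3 ^ k - 1) = 2 * (z - 1) := by
  rcases hn with rfl | rfl
  · left
    rw [n₁] at h
    have : 3 ^ k * (3 ^ k + 1) = (3 ^ k) ^ 2 + 3 ^ k := by ring
    omega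
  · right
    rw [n₂] at h
    have : 3 ^ k * (3 ^ k - 1) = (3 ^ k) ^ 2 - 3 ^ k := by rw [Nat.mul_sub, mul_one, sq]
    omega

theorem fin_seven (hk : 2 ≤ k) (hn : n = n₁ k ∨ n = n₂ k) {c : ℕ} (h : n + 1 = 2 * 7 ^ c) : False :=
  no_seven hk (eq_of hn h)

theorem fin_two (hk : 2 ≤ k) (hn : n = n₁ k ∨ n = n₂ k) {c : ℕ} (h : n + 1 = 2 ^ c) : False := by
  have hn1 : 1 ≤ n := by
    rcases hn with rfl | rfl
    · rw [n₁]; exact Nat.succ_pos _
    · rw [n₂]; exact Nat.succ_pos _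
  obtain ⟨d, rfl⟩ : ∃ d, c = d + 1 := by
    refine ⟨c - 1, ?_⟩
    have : c ≠ 0 := by
      rintro rfl
      rw [pow_zero] at h
      omega
    omega
  rw [pow_succ, mul_comm] at h
  exact no_two hk (eq_of hn h)

end arith

variable {k : ℕ} {F : Type} [Field F] [Fintype F]

/-- **`PSL₂(u)`**, `u` prime to 3 -/
theorem no_psl_two {p f : ℕ} (hp : p.Prime) [CharP F p] (hp3 : p ≠ 3) (hF : Fintype.card F = p ^ f)
    (h4 : 4 ≤ Fintype.card F) (H : Hyp k (Matrix.ProjectiveSpecialLinearGroup (Fin 2) F)) : False := by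
  have := Fact.mk hp
  have hS := S2475.result (F := F) p h4
  obtain ⟨u, hu⟩ : ∃ u, u = Fintype.card F := ⟨_, rfl⟩
  rw [← hu] at hS hF h4
  obtain ⟨A, hA⟩ : ∃ A, A = (u - 1) / Nat.gcd 2 (u - 1) := ⟨_, rfl⟩
  obtain ⟨B, hB⟩ : ∃ B, B = (u + 1) / Nat.gcd 2 (u - 1) := ⟨_, rfl⟩
  rw [← hA, ← hB] at hS
  set S := Matrix.ProjectiveSpecialLinearGroup (Fin 2) F with hSdef
  obtain ⟨gA, hgA⟩ : A ∈ Set.range (orderOf : S → ℕ) := by rw [hS]; exact Or.inr (Or.inl dvd_rfl)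
  obtain ⟨gB, hgB⟩ : B ∈ Set.range (orderOf : S → ℕ) := by rw [hS]; exact Or.inr (Or.inr dvd_rfl)
  have cA : ∀ {r s : ℕ}, r.Prime → s.Prime → r ∣ A → s ∣ A → Conn S r s := fun hr hs h1 h2 =>
    conn_of_dvd_orderOf (g := gA) hr hs (hgA ▸ h1) (hgA ▸ h2)
  have cB : ∀ {r s : ℕ}, r.Prime → s.Prime → r ∣ B → s ∣ B → Conn S r s := fun hr hs h1 h2 =>
    conn_of_dvd_orderOf (g := gB) hr hs (hgB ▸ h1) (hgB ▸ h2)
  have cover : ∀ r : ℕ, r.Prime → r ∣ n₁ k ∨ r ∣ n₂ k → r = p ∨ r ∣ A ∨ r ∣ B := by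
    intro r hr hrn
    have := Fact.mk hr
    obtain ⟨x, hx⟩ := exists_prime_orderOf_dvd_card' r (H.dvd_card hr hrn)
    have h1 : r ∈ Set.range (orderOf : S → ℕ) := ⟨x, hx⟩
    rw [hS] at h1
    rcases h1 with h1 | h1 | h1
    · exact Or.inl ((Nat.prime_dvd_prime_iff_eq hr hp).1 h1)
    · exact Or.inr (Or.inl h1)
    · exact Or.inr (Or.inr h1)
  have h3u : ¬ 3 ∣ u := fun h => by
    rw [hF] at h
    exact hp3 ((Nat.prime_dvd_prime_iff_eq Nat.prime_three hp).1 (Nat.prime_three.dvd_of_dvd_pow h)).symm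
  obtain ⟨r₁, r₂, hr₁, hr₂, hrn₁, hrn₂, -, -, hc⟩ := H.exists_pair
  by_cases hu2 : u % 2 = 0
  · -- `u` even
    have hp2 : p = 2 := by
      have : 2 ∣ p ^ f := hF ▸ Nat.dvd_of_mod_eq_zero hu2
      exact ((Nat.prime_dvd_prime_iff_eq Nat.prime_two hp).1 (Nat.prime_two.dvd_of_dvd_pow this)).symm
    have hg : Nat.gcd 2 (u - 1) = 1 := by
      rw [← Nat.coprime_iff_gcd_eq_one, Nat.coprime_comm, Nat.coprime_two_right, Nat.odd_iff]
      omega
    rw [hg, Nat.div_one] at hA hB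
    have h3 : 3 ∣ A ∨ 3 ∣ B := by
      have h3' : u % 3 = 1 ∨ u % 3 = 2 := by omega
      rcases h3' with h3' | h3'
      · left; omega
      · right; omega
    rcases h3 with h3 | h3
    · have hall : ∀ r : ℕ, r.Prime → r ∣ n₁ k ∨ r ∣ n₂ k → r ∣ B := by
        intro r hr hrn
        rcases cover r hr hrn with h | h | h
        · exact absurd (h.trans hp2) (H.ne_two hrn)
        · exact absurd (cA hr Nat.prime_three h h3) (H.not_three hrn)
        · exact h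
      exact hc (cB hr₁ hr₂ (hall r₁ hr₁ (Or.inl hrn₁)) (hall r₂ hr₂ (Or.inr hrn₂)))
    · have hall : ∀ r : ℕ, r.Prime → r ∣ n₁ k ∨ r ∣ n₂ k → r ∣ A := by
        intro r hr hrn
        rcases cover r hr hrn with h | h | h
        · exact absurd (h.trans hp2) (H.ne_two hrn)
        · exact h
        · exact absurd (cB hr Nat.prime_three h h3) (H.not_three hrn)
      exact hc (cA hr₁ hr₂ (hall r₁ hr₁ (Or.inl hrn₁)) (hall r₂ hr₂ (Or.inr hrn₂)))
  · -- `u` odd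
    have hg : Nat.gcd 2 (u - 1) = 2 := Nat.gcd_eq_left (by omega)
    rw [hg] at hA hB
    -- the odd half `Y`
    obtain ⟨Y, hcY, hcovY, hY⟩ : ∃ Y : ℕ, (∀ {r s : ℕ}, r.Prime → s.Prime → r ∣ Y → s ∣ Y → Conn S r s) ∧
        (∀ r : ℕ, r.Prime → r ∣ n₁ k ∨ r ∣ n₂ k → r = p ∨ r ∣ Y) ∧ ((Y = A ∧ u % 4 = 3) ∨ (Y = B ∧ u % 4 = 1)) := by
      have h24 : u % 4 = 3 ∨ u % 4 = 1 := by omega
      rcases h24 with h24 | h24
      · refine ⟨A, cA, fun r hr hrn => ?_, Or.inl ⟨rfl, h24⟩⟩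
        rcases cover r hr hrn with h | h | h
        · exact Or.inl h
        · exact Or.inr h
        · exact absurd (cB hr Nat.prime_two h (by omega)) (H.not_two hrn)
      · refine ⟨B, cB, fun r hr hrn => ?_, Or.inr ⟨rfl, h24⟩⟩
        rcases cover r hr hrn with h | h | h
        · exact Or.inl h
        · exact absurd (cA hr Nat.prime_two h (by omega)) (H.not_two hrn)
        · exact Or.inr h
    -- one of the two numbers is `p`
    obtain ⟨n, n', hnn, hpn, hYn⟩ : ∃ n n' : ℕ, ((n = n₁ k ∧ n' = n₂ k) ∨ (n = n₂ k ∧ n' = n₁ k)) ∧ p = n ∧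
        ∀ t : ℕ, t.Prime → t ∣ Y → t ∣ n' := by
      have base : ∀ n n' : ℕ, ((n = n₁ k ∧ n' = n₂ k) ∨ (n = n₂ k ∧ n' = n₁ k)) → p ∣ n →
          (∀ {r s : ℕ}, r ∣ n' → Conn S r s → s ∣ n') → (∀ r : ℕ, r.Prime → r ∣ n → r ∣ n' → False) →
          p = n ∧ ∀ t : ℕ, t.Prime → t ∣ Y → t ∣ n' := by
        intro n n' hnn hpn hcn hnb
        have hn1 : 1 < n := by
          rcases hnn with ⟨rfl, -⟩ | ⟨rfl, -⟩
          · exact H.h1.one_lt
          · exact H.h2.one_lt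
        have hn1' : 1 < n' := by
          rcases hnn with ⟨-, rfl⟩ | ⟨-, rfl⟩
          · exact H.h2.one_lt
          · exact H.h1.one_lt
        obtain ⟨s, hs, hsn⟩ := Nat.exists_prime_and_dvd hn1'.ne'
        have hsp : s ≠ p := by
          rintro rfl
          exact hnb s hs hpn hsn
        have hsY : s ∣ Y := (hcovY s hs (by rcases hnn with ⟨-, rfl⟩ | ⟨-, rfl⟩ <;> tauto)).resolve_left hsp
        have hYn : ∀ t : ℕ, t.Prime → t ∣ Y → t ∣ n' := fun t ht htY => hcn hsn (hcY hs ht hsY htY)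
        have hpow := Nat.eq_prime_pow_of_unique_prime_dvd (n := n) (p := p) (by omega) fun {d} hd hdn => by
          rcases hcovY d hd (by rcases hnn with ⟨rfl, -⟩ | ⟨rfl, -⟩ <;> tauto) with h | h
          · exact h
          · exact (hnb d hd hdn (hYn d hd h)).elim
        have h6 : p % 6 = 1 := H.mod_six hp (by rcases hnn with ⟨rfl, -⟩ | ⟨rfl, -⟩ <;> tauto)
        have h2 := size_prime H.hk hp h6 (a := n.primeFactorsList.length) (by
          intro h0
          rw [h0, pow_zero] at hpow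
          omega) (by tauto) hpow.symm
        exact ⟨h2.1, hYn⟩
      have hpp : p ∣ n₁ k ∨ p ∣ n₂ k := by
        rcases hcovY r₁ hr₁ (Or.inl hrn₁) with h | h
        · exact Or.inl (h ▸ hrn₁)
        · rcases hcovY r₂ hr₂ (Or.inr hrn₂) with h' | h'
          · exact Or.inr (h' ▸ hrn₂)
          · exact absurd (hcY hr₁ hr₂ h h') hc
      rcases hpp with h | h
      · have := base (n₁ k) (n₂ k) (Or.inl ⟨rfl, rfl⟩) h (fun h hc => H.conn₂ h hc)
          (fun r hr h1 h2 => H.not_both hr h1 h2)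
        exact ⟨_, _, Or.inl ⟨rfl, rfl⟩, this⟩
      · have := base (n₂ k) (n₁ k) (Or.inr ⟨rfl, rfl⟩) h (fun h hc => H.conn₁ h hc)
          (fun r hr h1 h2 => H.not_both hr h2 h1)
        exact ⟨_, _, Or.inr ⟨rfl, rfl⟩, this⟩
    have hn' : ∀ t : ℕ, t ∣ n' → t ∣ n₁ k ∨ t ∣ n₂ k := by
      intro t ht
      rcases hnn with ⟨-, rfl⟩ | ⟨-, rfl⟩ <;> tauto
    have hnor : n = n₁ k ∨ n = n₂ k := by tauto
    have h6 : p % 6 = 1 := H.mod_six hp (by
      rw [hpn]
      exact hnor.imp (fun h => dvd_of_eq h) (fun h => dvd_of_eq h))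
    have hu3 : u % 3 = 1 := by
      have h := Nat.pow_mod p f 3
      rw [show p % 3 = 1 by omega, one_pow, ← hF] at h
      omega
    rcases hY with ⟨rfl, h43⟩ | ⟨rfl, h41⟩
    · -- `u = 3` modulo 4
      have h3 : 3 ∣ Y := by omega
      have := H.mod_six Nat.prime_three (hn' 3 (hYn 3 Nat.prime_three h3))
      omega
    · -- `u = 1` modulo 4
      rcases Nat.even_or_odd f with hf | hf
      · -- `f` even
        have hdiv : p + 1 ∣ u - 1 := by
          obtain ⟨j, rfl⟩ := hf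
          have h1 : p ^ 2 - 1 ∣ (p ^ 2) ^ j - 1 ^ j := Nat.sub_dvd_pow_sub_pow (p ^ 2) 1 j
          rw [one_pow, ← pow_mul, two_mul, ← hF] at h1
          refine Dvd.dvd.trans ⟨p - 1, ?_⟩ h1
          have := Nat.sq_sub_sq p 1
          rwa [one_pow] at this
        have hpow := Nat.eq_prime_pow_of_unique_prime_dvd (n := p + 1) (p := 2) (by omega) fun {d} hd hdn => by
          by_contra hd2
          have hdA : d ∣ A := by
            have h1 : d ∣ u - 1 := hdn.trans hdiv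
            have h2 : u - 1 = 2 * A := by omega
            rw [h2] at h1
            exact (hd.dvd_mul.1 h1).resolve_left fun h => hd2 ((Nat.prime_dvd_prime_iff_eq hd Nat.prime_two).1 h)
          have hd2c : Conn S d 2 := cA hd Nat.prime_two hdA (by omega)
          have hdS : d ∣ Nat.card S := by
            have h1 : A ∣ Nat.card S := hgA ▸ orderOf_dvd_natCard gA
            exact hdA.trans h1
          rcases H.hπ d hd hdS with h | h | h | h
          · rw [h] at hdn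
            omega
          · exact hd2 (arith_two hnn hd (hpn ▸ hdn) h)
          · exact H.not_two (Or.inl h) hd2c
          · exact H.not_two (Or.inr h) hd2c
        exact fin_two H.hk hnor (hpn ▸ hpow)
      · -- `f` odd
        have hdiv : p + 1 ∣ u + 1 := by
          have h1 := Odd.nat_add_dvd_pow_add_pow p 1 hf
          rwa [one_pow, ← hF] at h1
        have hodd : p % 2 = 1 := by omega
        obtain ⟨z, hz⟩ : ∃ z, p + 1 = 2 * z := ⟨(p + 1) / 2, by omega⟩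
        have hzY : z ∣ Y := by
          have h2 : u + 1 = 2 * Y := by omega
          rw [hz, h2] at hdiv
          exact Nat.dvd_of_mul_dvd_mul_left (by norm_num) hdiv
        have hpow := Nat.eq_prime_pow_of_unique_prime_dvd (n := z) (p := 7) (by omega) fun {d} hd hdn =>
          arith_seven hnn hd (by rw [← hpn, hz]; exact hdn.mul_left _) (hYn d hd (hdn.trans hzY))
        rw [hpow, hpn] at hz
        exact fin_seven H.hk hnor hz

end Cfsg.Agent.H203.GI
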