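import Cfsg.Agent.H203.GI.RowTw
import Cfsg.Agent.H203.GI.RowChev
import Cfsg.Agent.H203.GI.RowPsl

/-!
# `S` of Lie type in characteristic `p ≠ 3` (helper203, for S3635, `L = G₂(3^k)`)
-/

set_option autoImplicit false

namespace Cfsg.Agent.H203.GI

open Cfsg Cfsg.Agent.H493.PG Cfsg.Agent.H493.PGRows
open Cfsg.Agent

universe u

variable {k : ℕ}

/-- **`PSL₃(2)`, `PSL₃(4)`** -/
theorem no_psl_three {F : Type} [Field F] [Fintype F] (hF : Fintype.card F = 2 ∨ Fintype.card F = 4)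
    (H : Hyp k (Matrix.ProjectiveSpecialLinearGroup (Fin 3) F)) : False := by
  refine H.no_list (a := 7) (b := 7) (c := 7) (by norm_num) (by norm_num) (by norm_num) fun r hr hrn => ?_
  have hd := H.dvd_card hr hrn
  have h6 := H.mod_six hr hrn
  have h20160 : Nat.card (Matrix.ProjectiveSpecialLinearGroup (Fin 3) F) ∣ 20160 := by
    have h := Cfsg.Agent.S0243.result (F := F) rfl 3 (by norm_num)
    rcases hF with hF | hF
    · rw [hF, Fin.prod_univ_three] at h
      simp only [Fin.val_zero, Fin.val_one, Fin.val_two] at h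
      norm_num at h
      rw [h]
      norm_num
    · rw [hF, Fin.prod_univ_three] at h
      simp only [Fin.val_zero, Fin.val_one, Fin.val_two] at h
      norm_num at h
      have : Nat.card (Matrix.ProjectiveSpecialLinearGroup (Fin 3) F) = 20160 := by omega
      rw [this]
  have h1 : r ∣ 2 ^ 6 * 3 ^ 2 * 5 * 7 := by
    have := hd.trans h20160
    rwa [show 20160 = 2 ^ 6 * 3 ^ 2 * 5 * 7 by norm_num] at this
  left
  rcases hr.dvd_mul.1 h1 with h1 | h1
  · exfalso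
    rcases hr.dvd_mul.1 h1 with h1 | h1
    · rcases hr.dvd_mul.1 h1 with h1 | h1
      · have := (Nat.prime_dvd_prime_iff_eq hr Nat.prime_two).1 (hr.dvd_of_dvd_pow h1)
        omega
      · have := (Nat.prime_dvd_prime_iff_eq hr Nat.prime_three).1 (hr.dvd_of_dvd_pow h1)
        omega
    · have := (Nat.prime_dvd_prime_iff_eq hr Nat.prime_five).1 h1
      omega
  · exact (Nat.prime_dvd_prime_iff_eq hr (by norm_num)).1 h1

/-- **`PSU₆(2)`** -/
theorem no_psu_six {F : Type} [Field F] [Fintype F] {q : ℕ} (hq : q = 2) (hF : Fintype.card F = q ^ 2)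
    (H : Hyp k (PSU 6 F q)) : False := by
  subst hq
  refine H.no_list (a := 7) (b := 11) (c := 11) (by norm_num) (by norm_num) (by norm_num) fun r hr hrn => ?_
  rcases H948.UMain.psu_six_two hF hr (H.dvd_card hr hrn) with h | h | h
  · exact absurd (conn_of h.conn) (H.not_two hrn)
  · exact Or.inl h
  · exact Or.inr (Or.inl h)

/-- **`PΩ⁻(u)`**, `u ≠ 3` -/
theorem no_ominus {F : Type} [Field F] [Fintype F] (hF : Fintype.card F ≠ 3) {m : ℕ} (hm : 4 ≤ m) {a b : F}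
    (hab : ∀ z₁ z₂ : F, z₁ ^ 2 + a * z₁ * z₂ + b * z₂ ^ 2 = 0 → z₁ = 0 ∧ z₂ = 0)
    (H : Hyp k (POmega F (quadFormMinus (m - 1) F a b))) [Finite (POmega F (quadFormMinus (m - 1) F a b))] : False := by
  obtain ⟨r, s, hr, hs, hrn, hsn, hrd, hsd, hc⟩ := H.exists_pair
  have hcard := Cfsg.Agent.S0294.result (F := F) rfl m hm a b hab
  simp only [← Nat.card_eq_fintype_card] at hcard
  have hsg := H182.Sign.sg_minusForm (F := F) (m - 1) hab
  rw [Nat.sub_add_cancel (by omega)] at hsg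
  have h1 := H182.Orth.minus_three hsg hm hcard hr hs (H.ne_two (Or.inl hrn)) (H.ne_two (Or.inr hsn)) hrd hsd
  rw [LieClassical.OrthForms.coe_minusForm] at h1
  rcases h1 with h1 | h1 | h1 | h1
  · exact H.not_two (Or.inl hrn) (conn_of h1).symm
  · exact H.not_two (Or.inr hsn) (conn_of h1).symm
  · exact hc (conn_of h1)
  · exact hF (by rw [← Nat.card_eq_fintype_card]; exact h1.1)

open H426.LieFam in
/-- **Lie type in characteristic `p ≠ 3`** -/
theorem no_lie {S : Type u} [Group S] [Finite S] {p : ℕ} (hp : p.Prime) (hp3 : p ≠ 3) (hl : IsLieTypeChar p S)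
    (h2 : 2 ∣ Nat.card S) (H : Hyp k S) : False := by
  obtain ⟨fam, f, d, N, hIs, hSh⟩ := exists_fam hp hl
  have hf := hSh.f_pos
  have h3 : ∀ {c : ℕ}, c = p ^ f → ¬ 3 ∣ c := by
    rintro c rfl h
    exact hp3 ((Nat.prime_dvd_prime_iff_eq Nat.prime_three hp).1 (Nat.prime_three.dvd_of_dvd_pow h)).symm
  rcases H.tri.fam h2 hp hf hIs with h | ⟨h, h0⟩ | ⟨h, h0⟩ | ⟨h, h0⟩ | ⟨m, h⟩ | h | h | h | h | h | h | h | h
  · subst h
    obtain ⟨-, h4, F, _, _, _, hF, ⟨e⟩⟩ := hIs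
    exact no_psl_two hp hp3 hF (by rw [hF]; exact h4 rfl) (H.congr e)
  · subst h
    obtain ⟨-, h4, F, _, _, _, hF, ⟨e⟩⟩ := hIs
    exact no_psl_three (by rw [hF]; exact h0) (H.congr e)
  · subst h
    exact h3 h0.symm (by norm_num)
  · subst h
    obtain ⟨-, h4, F, _, _, _, hF, ⟨e⟩⟩ := hIs
    exact no_psu_six h0 hF (H.congr e)
  · subst h
    obtain ⟨hm, F, _, _, _, a, b, hF, hab, ⟨e⟩⟩ := hIs
    have : Finite (POmega F (quadFormMinus (m - 1) F a b)) := Finite.of_equiv S e.toEquiv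
    exact no_ominus (fun h => h3 hF (by rw [h])) hm hab (H.congr e)
  · subst h
    obtain ⟨-, F, _, _, _, hF, ⟨e⟩⟩ := hIs
    exact no_g2 (by rw [Nat.card_eq_fintype_card]; exact h3 hF) (H.congr e)
  · subst h
    obtain ⟨F, _, _, _, hF, ⟨e⟩⟩ := hIs
    exact no_f4 (H.congr e)
  · subst h
    obtain ⟨F, _, _, _, hF, ⟨e⟩⟩ := hIs
    exact no_e7 (by rw [Nat.card_eq_fintype_card]; exact h3 hF) (H.congr e)
  · subst h
    obtain ⟨F, _, _, _, hF, ⟨e⟩⟩ := hIs
    exact no_e8 (H.congr e)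
  · subst h
    obtain ⟨K, _, _, _, hK, ⟨e⟩⟩ := hIs
    exact no_te6 (hp.isPrimePow.pow (by omega)) hK (h3 rfl) (H.congr e)
  · subst h
    obtain ⟨-, m, hm, -, F, _, _, hF, ⟨e⟩⟩ := hIs
    obtain ⟨e'⟩ := Cfsg.Agent.OddCyclic.ClaimC.SzIso.iso hm hF
    exact no_sz hm hF (H.congr (e.trans e'.symm))
  · subst h
    exact hp3 hIs.1
  · subst h
    obtain ⟨-, m, hm, -, K, _, _, hK, ⟨e⟩⟩ := hIs
    exact no_tf4 hm hK (H.congr e)

end Cfsg.Agent.H203.GI
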