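import Cfsg.Agent.H203.GI.RowE8

/-!
# `S = ²F₄(u)`, `²E₆(u)`, `Sz(u)` (helper203, for S3635, `L = G₂(3^k)`)
-/

set_option autoImplicit false

namespace Cfsg.Agent.H203.GI

open Cfsg.Agent.H493.PG Cfsg.Agent.H493.PGRows
open Cfsg.Agent
open Cfsg.Agent.H493.PGCyc
open Cfsg.Agent.H493.PGTorus (pv)

universe u

/-- `r ∣ x² + 1` -/
theorem mod_four_of_sq {x : ℤ} {r : ℕ} (hr : r.Prime) (h2 : r ≠ 2) (h : (r : ℤ) ∣ x ^ 2 + 1) : r % 4 = 1 := by
  have : Fact r.Prime := ⟨hr⟩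
  have h1 : (x : ZMod r) ^ 2 = -1 := by
    have := (ZMod.intCast_zmod_eq_zero_iff_dvd (x ^ 2 + 1) r).2 h
    push_cast at this
    linear_combination this
  have h3 := ZMod.mod_four_ne_three_of_sq_eq_neg_one h1
  have h4 : r % 2 = 1 := hr.eq_two_or_odd.resolve_left h2
  omega

section tf4

variable {k : ℕ} {K : Type u} [Field K] [Fintype K] {m : ℕ}

/-- **`²F₄(u)`** -/
theorem no_tf4 (hm : 1 ≤ m) (hK : Fintype.card K = 2 ^ (2 * m + 1)) (H : Hyp k ↥(Cfsg.Lie.twistedF4 K (2 ^ m))) :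
    False := H.not_mod_four fun r hr h => by
  have hrG := H.dvd_card hr h
  rw [Cfsg.Agent.S1068.result hK] at hrG
  have hfac : (H493.PGF4T.fP (2 ^ m)) * (H493.PGF4T.fM (2 ^ m)) * ((2 * ((2 : ℤ) ^ m) ^ 2) ^ 2 + 1) =
      (((2 * ((2 : ℤ) ^ m) ^ 2)) ^ 3) ^ 2 + 1 := by
    unfold H493.PGF4T.fP H493.PGF4T.fM
    ring
  have key : (r : ℤ) ∣ (((2 * ((2 : ℤ) ^ m) ^ 2)) ^ 3) ^ 2 + 1 := by
    rw [← hfac]
    rcases H493.PGF4T.cover hr hrG with h1 | h1 | h1
    · exact absurd (H493.PGF4T.conn_main hm hK hr h1) (H.not_two h)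
    · exact (h1.mul_right _).mul_right _
    · exact (h1.mul_left _).mul_right _
  exact mod_four_of_sq hr (H.ne_two h) key

end tf4

section te6

variable {k : ℕ} {K : Type u} [Field K] [Fintype K] {q : ℕ}

/-- a prime different from 3 of a number prime to 9 -/
theorem exists_ne_three {n : ℕ} (h1 : n ≠ 1) (h3 : n ≠ 3) (h9 : ¬ 9 ∣ n) : ∃ s : ℕ, s.Prime ∧ s ≠ 3 ∧ s ∣ n := by
  by_contra hc
  push Not at hc
  obtain ⟨r, hr, hrn⟩ := Nat.exists_prime_and_dvd h1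
  have hr3 : r = 3 := by
    by_contra h
    exact hc r hr h hrn
  subst hr3
  obtain ⟨m, rfl⟩ := hrn
  have hm1 : m ≠ 1 := by
    rintro rfl
    exact h3 rfl
  obtain ⟨s, hs, hsm⟩ := Nat.exists_prime_and_dvd hm1
  have hs3 : s = 3 := by
    by_contra h
    exact hc s hs h (hsm.mul_left _)
  subst hs3
  obtain ⟨j, rfl⟩ := hsm
  exact h9 ⟨j, by ring⟩

/-- **`²E₆(u)`**, `u` prime to 3 -/
theorem no_te6 (hq : IsPrimePow q) (hK : Fintype.card K = q ^ 2) (h3 : ¬ 3 ∣ q)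
    (H : Hyp k ↥(Cfsg.Lie.twistedE6 K q)) : False := by
  obtain ⟨p, n, hp, hn, hpn⟩ := id hq
  have hp := hp.nat_prime
  have hpq : p ∣ q := hpn ▸ dvd_pow_self p hn.ne'
  have hq2 := hq.two_le
  -- 2 is in the main component
  have h2p : Conn ↥(Cfsg.Lie.twistedE6 K q) 2 p := by
    refine H493.PGE6T.conn_main hq hK Nat.prime_two hp hpq (by norm_num) ?_
    rcases Nat.even_or_odd q with he | ho
    · exact Or.inl he.two_dvd
    · right; left
      rw [pv_c1]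
      obtain ⟨z, hz⟩ := ho
      exact ⟨z, by rw [hz]; push_cast; ring⟩
  have hmain : ∀ t : ℕ, t.Prime → t ≠ 3 → (t ∣ q ∨ (t : ℤ) ∣ pv c1 q ∨ (t : ℤ) ∣ pv c2 q ∨ (t : ℤ) ∣ pv c3 q ∨
      (t : ℤ) ∣ pv c4 q ∨ (t : ℤ) ∣ pv c6 q ∨ (t : ℤ) ∣ pv c10 q) → Conn ↥(Cfsg.Lie.twistedE6 K q) t 2 :=
    fun t ht ht3 h => (H493.PGE6T.conn_main hq hK ht hp hpq ht3 h).trans h2p.symm
  have hcase : ∀ t : ℕ, t.Prime → t ∣ n₁ k ∨ t ∣ n₂ k → (t : ℤ) ∣ pv c8 q ∨ (t : ℤ) ∣ pv c12 q ∨ (t : ℤ) ∣ pv c18 q := by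
    intro t ht htn
    have h1 : t ∣ q ^ 36 * (q ^ 2 - 1) * (q ^ 5 + 1) * (q ^ 6 - 1) * (q ^ 8 - 1) * (q ^ 9 + 1) * (q ^ 12 - 1) := by
      rw [← Cfsg.Agent.S1066.result hq hK]
      exact (H.dvd_card ht htn).mul_left _
    rcases H493.PGE6T.cover hq.two_le ht h1 with h | h
    · exact absurd (hmain t ht (H.ne_three ht htn) h) (H.not_two htn)
    · exact h
  by_cases hq22 : q = 2
  · subst hq22
    refine H.no_list (a := 17) (b := 13) (c := 19) (by norm_num) (by norm_num) (by norm_num) fun r hr hrn => ?_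
    rcases hcase r hr hrn with h | h | h
    · left
      rw [pv_c8] at h
      have h1 : r ∣ 17 := by exact_mod_cast (by simpa using h : (r : ℤ) ∣ 17)
      exact (Nat.prime_dvd_prime_iff_eq hr (by norm_num)).1 h1
    · right; left
      rw [pv_c12] at h
      have h1 : r ∣ 13 := by exact_mod_cast (by simpa using h : (r : ℤ) ∣ 13)
      exact (Nat.prime_dvd_prime_iff_eq hr (by norm_num)).1 h1
    · right; right
      rw [pv_c18] at h
      have h1 : r ∣ 57 := by exact_mod_cast (by simpa using h : (r : ℤ) ∣ 57)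
      rw [show 57 = 3 * 19 by norm_num] at h1
      rcases hr.dvd_mul.1 h1 with h2 | h2
      · exact absurd ((Nat.prime_dvd_prime_iff_eq hr Nat.prime_three).1 h2) (H.ne_three hr hrn)
      · exact (Nat.prime_dvd_prime_iff_eq hr (by norm_num)).1 h2
  · have hq4 : 4 ≤ q := by
      rcases Nat.lt_or_ge q 4 with h | h
      · exfalso
        have : q = 3 := by omega
        exact h3 (by rw [this])
      · exact h
    have hcase' : ∀ t : ℕ, t.Prime → t ∣ n₁ k ∨ t ∣ n₂ k → (t : ℤ) ∣ pv c18 q := by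
      intro t ht htn
      have ht3 := H.ne_three ht htn
      rcases hcase t ht htn with h | h | h
      · exfalso
        have hm : q % 3 = 1 ∨ q % 3 = 2 := by omega
        rcases hm with hm | hm
        · obtain ⟨s, hs, hsd⟩ := Nat.exists_prime_and_dvd (n := q + 1) (by omega)
          have hs3 : s ≠ 3 := by
            rintro rfl
            omega
          have h4 : (s : ℤ) ∣ pv c2 q := by rw [pv_c2]; exact_mod_cast hsd
          exact H.not_two htn ((H493.PGE6T.conn8_2 hq hK ht hs ht3 hs3 h h4).trans (hmain s hs hs3 (by tauto)))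
        · obtain ⟨s, hs, hsd⟩ := Nat.exists_prime_and_dvd (n := q - 1) (by omega)
          have hs3 : s ≠ 3 := by
            rintro rfl
            omega
          have h4 : (s : ℤ) ∣ pv c1 q := by
            rw [pv_c1]
            have := Int.natCast_dvd_natCast.2 hsd
            rw [Nat.cast_sub (by omega)] at this
            exact_mod_cast this
          exact H.not_two htn ((H493.PGE6T.conn8_1 hq hK ht hs ht3 hs3 h h4).trans (hmain s hs hs3 (by tauto)))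
      · exfalso
        have hle : q ≤ q ^ 2 := Nat.le_self_pow (by norm_num) _
        have hbig : 4 * q ≤ q ^ 2 := by
          rw [sq]
          exact Nat.mul_le_mul_right _ hq4
        obtain ⟨s, hs, hs3, hsd⟩ := exists_ne_three (n := q ^ 2 - q + 1) (by omega) (by omega) (by
          have hm : q % 9 = 0 ∨ q % 9 = 1 ∨ q % 9 = 2 ∨ q % 9 = 3 ∨ q % 9 = 4 ∨ q % 9 = 5 ∨ q % 9 = 6 ∨ q % 9 = 7 ∨
            q % 9 = 8 := by omega
          have h5 : q ^ 2 % 9 = (q % 9) ^ 2 % 9 := Nat.pow_mod _ _ _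
          rcases hm with hm | hm | hm | hm | hm | hm | hm | hm | hm <;> rw [hm] at h5 <;> omega)
        have h4 : (s : ℤ) ∣ pv c6 q := by
          rw [pv_c6]
          have := Int.natCast_dvd_natCast.2 hsd
          push_cast [hle] at this
          exact this
        exact H.not_two htn ((H493.PGE6T.conn12_6 hq hK ht hs ht3 hs3 h h4).trans (hmain s hs hs3 (by tauto)))
      · exact h
    obtain ⟨r, s, hr, hs, hrn, hsn, hrd, hsd, hc⟩ := H.exists_pair
    exact hc (H493.PGE6T.conn18 hq hK hr hs (H.ne_three hr (Or.inl hrn)) (H.ne_three hs (Or.inr hsn))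
      (hcase' r hr (Or.inl hrn)) (hcase' s hs (Or.inr hsn)))

end te6

section sz

variable {k : ℕ} {F : Type u} [Field F] [Fintype F] {m : ℕ}

/-- adjacent primes of the Suzuki groups -/
theorem sz_adj (hm : 1 ≤ m) (hF : Fintype.card F = 2 ^ (2 * m + 1)) {r s : ℕ} (hr : r.Prime) (hs : s.Prime)
    (hr2 : r ≠ 2) (h : r ∣ 2 ^ (2 * m + 1) - 1) {x : ↥(Cfsg.Sz F m)} (hx : orderOf x = r * s) :
    s ∣ 2 ^ (2 * m + 1) - 1 := by
  have hx1 : x ≠ 1 := by
    rintro rfl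
    rw [orderOf_one] at hx
    have := hr.two_le
    have := hs.two_le
    nlinarith
  obtain ⟨U, ⟨hU, hxU⟩, -⟩ := Cfsg.Agent.S2238.result hm hF x hx1
  have hxo : orderOf (⟨x, hxU⟩ : U) = r * s := by rw [Subgroup.orderOf_mk, hx]
  have hd : r * s ∣ Nat.card U := hxo ▸ orderOf_dvd_natCard _
  rcases hU with ⟨P, rfl⟩ | ⟨-, hN⟩
  · exfalso
    have hc : Nat.card P = 2 ^ _ := P.card_eq_multiplicity
    have h3 : r ∣ Nat.card P := (Dvd.intro _ rfl).trans hd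
    rw [hc] at h3
    exact hr2 ((Nat.prime_dvd_prime_iff_eq hr Nat.prime_two).1 (hr.dvd_of_dvd_pow h3))
  · -- `u² + 1` and `u - 1` are coprime
    have hsq : (2 ^ (m + 1)) ^ 2 = 2 * 2 ^ (2 * m + 1) := by ring
    have hle : 2 ^ (m + 1) ≤ 2 ^ (2 * m + 1) := Nat.pow_le_pow_right (by norm_num) (by omega)
    have hfac : (2 ^ (2 * m + 1) + 2 ^ (m + 1) + 1) * (2 ^ (2 * m + 1) - 2 ^ (m + 1) + 1) =
        (2 ^ (2 * m + 1)) ^ 2 + 1 := by
      zify [hle]
      have : ((2 : ℤ) ^ (m + 1)) ^ 2 = 2 * 2 ^ (2 * m + 1) := by exact_mod_cast hsq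
      linear_combination (-1) * this
    have hno : ∀ N : ℕ, N ∣ (2 ^ (2 * m + 1)) ^ 2 + 1 → r ∣ N → False := by
      intro N hN hrN
      have h4 : r ∣ (2 ^ (2 * m + 1)) ^ 2 + 1 := hrN.trans hN
      have h5 : (2 ^ (2 * m + 1)) ^ 2 + 1 = (2 ^ (2 * m + 1) - 1) * (2 ^ (2 * m + 1) + 1) + 2 := by
        have h1 : 1 ≤ 2 ^ (2 * m + 1) := Nat.one_le_two_pow
        zify [h1]
        ring
      rw [h5] at h4
      have h6 := (Nat.dvd_add_right (h.mul_right _)).1 h4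
      exact hr2 ((Nat.prime_dvd_prime_iff_eq hr Nat.prime_two).1 h6)
    have hrU : r ∣ Nat.card U := (Dvd.intro _ rfl).trans hd
    have hsU : s ∣ Nat.card U := (Dvd.intro_left _ rfl).trans hd
    simp only [Set.mem_insert_iff, Set.mem_singleton_iff] at hN
    rcases hN with hN | hN | hN
    · rwa [hN] at hsU
    · rw [hN] at hrU
      exact (hno _ (hfac ▸ dvd_mul_right _ _) hrU).elim
    · rw [hN] at hrU
      exact (hno _ (hfac ▸ dvd_mul_left _ _) hrU).elim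

theorem card_sz (hm : 1 ≤ m) (hF : Fintype.card F = 2 ^ (2 * m + 1)) {r : ℕ} (hr : r.Prime) (hr2 : r ≠ 2)
    (h : r ∣ Nat.card ↥(Cfsg.Sz F m)) : r ∣ 2 ^ (2 * m + 1) - 1 ∨ r ∣ (2 ^ (2 * m + 1)) ^ 2 + 1 := by
  have := Fact.mk hr
  obtain ⟨x, hx⟩ := exists_prime_orderOf_dvd_card' r h
  have hx1 : x ≠ 1 := by
    rintro rfl
    rw [orderOf_one] at hx
    exact hr.one_lt.ne hx
  obtain ⟨U, ⟨hU, hxU⟩, -⟩ := Cfsg.Agent.S2238.result hm hF x hx1
  have hxo : orderOf (⟨x, hxU⟩ : U) = r := by rw [Subgroup.orderOf_mk, hx]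
  have hd : r ∣ Nat.card U := hxo ▸ orderOf_dvd_natCard _
  rcases hU with ⟨P, rfl⟩ | ⟨-, hN⟩
  · exfalso
    have hc : Nat.card P = 2 ^ _ := P.card_eq_multiplicity
    rw [hc] at hd
    exact hr2 ((Nat.prime_dvd_prime_iff_eq hr Nat.prime_two).1 (hr.dvd_of_dvd_pow hd))
  · have hsq : (2 ^ (m + 1)) ^ 2 = 2 * 2 ^ (2 * m + 1) := by ring
    have hle : 2 ^ (m + 1) ≤ 2 ^ (2 * m + 1) := Nat.pow_le_pow_right (by norm_num) (by omega)
    have hfac : (2 ^ (2 * m + 1) + 2 ^ (m + 1) + 1) * (2 ^ (2 * m + 1) - 2 ^ (m + 1) + 1) =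
        (2 ^ (2 * m + 1)) ^ 2 + 1 := by
      zify [hle]
      have : ((2 : ℤ) ^ (m + 1)) ^ 2 = 2 * 2 ^ (2 * m + 1) := by exact_mod_cast hsq
      linear_combination (-1) * this
    simp only [Set.mem_insert_iff, Set.mem_singleton_iff] at hN
    rcases hN with hN | hN | hN
    · rw [hN] at hd
      exact Or.inl hd
    · rw [hN] at hd
      exact Or.inr (hfac ▸ hd.mul_right _)
    · rw [hN] at hd
      exact Or.inr (hfac ▸ hd.mul_left _)

/-- `r ∣ 2 ^ (2 m + 1) - 1` : `r = ± 1` modulo 8 -/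
theorem mod_eight_of {r : ℕ} (hr : r.Prime) (h2 : r ≠ 2) (h : r ∣ 2 ^ (2 * m + 1) - 1) : r % 8 = 1 ∨ r % 8 = 7 := by
  have : Fact r.Prime := ⟨hr⟩
  have h1 : IsSquare (2 : ZMod r) := by
    refine ⟨2 ^ (m + 1), ?_⟩
    have h3 : ((2 ^ (2 * m + 1) - 1 : ℕ) : ZMod r) = 0 := (ZMod.natCast_eq_zero_iff _ _).2 h
    rw [Nat.cast_sub Nat.one_le_two_pow] at h3
    push_cast at h3
    have h4 : (2 : ZMod r) ^ (m + 1) * 2 ^ (m + 1) = 2 * 2 ^ (2 * m + 1) := by ring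
    rw [h4]
    linear_combination (-2) * h3
  exact (ZMod.exists_sq_eq_two_iff h2).1 h1

/-- **`Sz(u)`** -/
theorem no_sz (hm : 1 ≤ m) (hF : Fintype.card F = 2 ^ (2 * m + 1)) (H : Hyp k ↥(Cfsg.Sz F m)) : False := by
  have h5 : 5 ∣ Nat.card ↥(Cfsg.Sz F m) := by
    rw [Cfsg.Agent.S0324.result hm hF]
    refine dvd_mul_of_dvd_left (dvd_mul_of_dvd_right ?_ _) _
    have e : (2 ^ (2 * m + 1)) ^ 2 = 16 ^ m * 4 := by
      rw [← pow_mul, show (16 : ℕ) = 2 ^ 4 by norm_num, ← pow_mul, show (4 : ℕ) = 2 ^ 2 by norm_num, ← pow_add]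
      congr 1
      ring
    rw [e]
    have h1 : 16 ^ m % 5 = 1 := by rw [Nat.pow_mod]; norm_num
    omega
  have he := even_of_five H.hk1 (H.hπ 5 (by norm_num) h5)
  have h8 := mod_eight he
  obtain ⟨r, hr, hrn, hr4⟩ : ∃ r : ℕ, r.Prime ∧ r ∣ n₁ k ∧ r % 4 ≠ 1 := by
    by_contra hc
    push Not at hc
    have := mod_one (m := 4) (n := n₁ k) (by omega) fun r hr hrn => hc r hr hrn
    omega
  have hr2 := H.ne_two (Or.inl hrn)
  have hru : r ∣ 2 ^ (2 * m + 1) - 1 := by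
    rcases card_sz hm hF hr hr2 (H.dvd_card hr (Or.inl hrn)) with h | h
    · exact h
    · exfalso
      exact hr4 (mod_four_of_sq (x := 2 ^ (2 * m + 1)) hr hr2 (by exact_mod_cast h))
  have hall : ∀ s : ℕ, s.Prime → s ∣ n₁ k → s ∣ 2 ^ (2 * m + 1) - 1 := by
    intro s hs hsn
    by_cases hrs : r = s
    · rwa [← hrs]
    · obtain ⟨x, hx⟩ := H.cl r s hr hs hrs hrn hsn
      exact sz_adj hm hF hr hs hr2 hru hx
  have := mul_ind (P := fun x => x % 8 = 1 ∨ x % 8 = 7) (Or.inl rfl) (fun a b ha hb => by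
    have e : a * b % 8 = (a % 8) * (b % 8) % 8 := Nat.mul_mod _ _ _
    rcases ha with ha | ha <;> rcases hb with hb | hb <;> rw [ha, hb] at e <;> omega) (n := n₁ k) (by omega)
    fun s hs hsn => mod_eight_of hs (H.ne_two (Or.inl hsn)) (hall s hs hsn)
  omega

end sz

end Cfsg.Agent.H203.GI
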